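import Groth.Agent.ProEtW.IndZariski

/-!
Retractions of faithfully flat algebras over rings with w-local spectrum.
-/

universe u

namespace Groth.Agent.ProEtW.Retraction

open Set Topology
open Groth.Agent.ProEtW

variable {A : Type u} [CommRing A]

/-- In a w-local spectrum, closed points are the connected components. -/
theorem exists_homeomorph_pi0 (hA : ProEtW.IsWLocal (PrimeSpectrum A)) :
    ∃ e : IdentifiesLocal.C0 A ≃ₜ _root_.ConnectedComponents (PrimeSpectrum A),
      ∀ x, e x = ConnectedComponents.mk x.1 := by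
  obtain ⟨_, _, _⟩ := IdentifiesLocal.isProfinite_C0 hA
  let f : IdentifiesLocal.C0 A → _root_.ConnectedComponents (PrimeSpectrum A) :=
    fun x => ConnectedComponents.mk x.1
  have hinj : Function.Injective f := by
    intro x y hxy
    by_contra hne
    obtain ⟨W, hW, hx, hy⟩ := exists_isClopen_of_totally_separated hne
    obtain ⟨ε, hε, hεW⟩ := IdentifiesLocal.exists_idempotent hA hW
    exact Spectral.connectedComponents_mk_ne_iff.2 ⟨PrimeSpectrum.basicOpen ε,
      PrimeSpectrum.isClopen_iff.2 ⟨ε, hε, rfl⟩, (hεW x).1 hx, fun hh => hy ((hεW y).2 hh)⟩ hxy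
  have hc : Continuous f := ConnectedComponents.continuous_coe.comp continuous_subtype_val
  have : T2Space (_root_.ConnectedComponents (PrimeSpectrum A)) := Spectral.t2Space_connectedComponents
  exact ⟨hc.homeoOfEquivCompactToT2
    (f := Equiv.ofBijective f ⟨hinj, Spectral.surjective_closedPoints_mk⟩), fun _ => rfl⟩

/-- A retract of a projective compact Hausdorff space is projective. -/
theorem projective_of_retract {T X : Type u} [TopologicalSpace T] [TopologicalSpace X]
    (hT : CompactT2.Projective T) {i : X → T} {p : T → X} (hi : Continuous i) (hp : Continuous p)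
    (hpi : ∀ x, p (i x) = x) : CompactT2.Projective X := by
  intro Y Z _ _ _ _ _ _ f g hf hg hgs
  obtain ⟨l, hl, hlf⟩ := hT (hf.comp hp) hg hgs
  refine ⟨l ∘ i, hl.comp hi, funext fun x => ?_⟩
  exact (congrFun hlf (i x)).trans (congrArg f (hpi x))

theorem isWLocal_of_isClosedEmbedding {X Y : Type u} [TopologicalSpace X] [TopologicalSpace Y]
    {f : X → Y} (hf : IsClosedEmbedding f) (hY : ProEtW.IsWLocal Y) : ProEtW.IsWLocal X := by
  obtain ⟨hs, h0, hu⟩ := hY
  have hiff : ∀ x, IsClosed ({x} : Set X) ↔ IsClosed ({f x} : Set Y) := fun x =>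
    ⟨fun h => image_singleton ▸ hf.isClosedMap _ h, fun h => by
      have : ({x} : Set X) = f ⁻¹' {f x} := by ext y; simp [hf.injective.eq_iff]
      rw [this]; exact h.preimage hf.continuous⟩
  refine ⟨Spectral.spectralSpace_of_isClosedEmbedding hf, ?_, fun x => ?_⟩
  · simp only [hiff]
    exact h0.preimage hf.continuous
  · obtain ⟨y, ⟨hy, hxy⟩, hy'⟩ := hu (f x)
    obtain ⟨x', rfl⟩ : y ∈ range f := hxy.mem_closed hf.isClosed_range (mem_range_self x)
    exact ⟨x', ⟨(hiff x').2 hy, hf.isInducing.specializes_iff.1 hxy⟩, fun x'' ⟨h1, h2⟩ =>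
      hf.injective (hy' _ ⟨(hiff x'').1 h1, h2.map hf.continuous⟩)⟩

variable {B : Type u} [CommRing B] [Algebra A B]

/-- A continuous section over the closed points gives a retraction. -/
theorem nonempty_retraction_of_section (hA : ProEtW.IsWLocal (PrimeSpectrum A))
    (σ : IdentifiesLocal.C0 A → PrimeSpectrum B)
    (h : ∀ n, Function.Bijective (Localization.localRingHom ((σ n).asIdeal.comap (algebraMap A B))
      (σ n).asIdeal (algebraMap A B) rfl))
    (hσ : Continuous σ) (hσA : ∀ n, PrimeSpectrum.comap (algebraMap A B) (σ n) = n.1) :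
    Nonempty (B →ₐ[A] A) := by
  obtain ⟨_, _, _⟩ := IdentifiesLocal.isProfinite_C0 hA
  have hcomap : ∀ n : IdentifiesLocal.C0 A, n.1.asIdeal = (σ n).asIdeal.comap (algebraMap A B) :=
    fun n => congrArg PrimeSpectrum.asIdeal (hσA n).symm
  let g : ∀ n : IdentifiesLocal.C0 A,
      Localization.AtPrime n.1.asIdeal →ₐ[A] Localization.AtPrime (σ n).asIdeal := fun n =>
    { Localization.localRingHom n.1.asIdeal (σ n).asIdeal (algebraMap A B) (hcomap n) with
      commutes' := fun a => (Localization.localRingHom_to_map _ _ _ (hcomap n) a).trans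
        (IsScalarTower.algebraMap_apply A B (Localization.AtPrime (σ n).asIdeal) a).symm }
  have hg : ∀ n, Function.Bijective (g n) := by
    have key : ∀ (q : PrimeSpectrum B), Function.Bijective (Localization.localRingHom
          (q.asIdeal.comap (algebraMap A B)) q.asIdeal (algebraMap A B) rfl) →
        ∀ (I : Ideal A) [I.IsPrime] (hI : I = q.asIdeal.comap (algebraMap A B)),
        Function.Bijective (Localization.localRingHom I q.asIdeal (algebraMap A B) hI) := by
      intro q hq I _ hI
      subst hI
      exact hq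
    exact fun n => key (σ n) (h n) n.1.asIdeal (hcomap n)
  let e n := AlgEquiv.ofBijective (g n) (hg n)
  let G : B →ₐ[A] ∀ n : IdentifiesLocal.C0 A, Localization.AtPrime n.1.asIdeal :=
    AlgHom.pi fun n => (e n).symm.toAlgHom.comp
      (IsScalarTower.toAlgHom A B (Localization.AtPrime (σ n).asIdeal))
  have hG : ∀ b n, g n (G b n) = algebraMap B (Localization.AtPrime (σ n).asIdeal) b := fun b n =>
    (e n).apply_symm_apply _
  let F : A →ₐ[A] ∀ n : IdentifiesLocal.C0 A, Localization.AtPrime n.1.asIdeal :=
    Algebra.ofId A _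
  have Finj : Function.Injective F := fun a a' haa' =>
    MaximalSpectrum.toPiLocalization_injective A (funext fun m =>
      congrFun haa' ⟨⟨m.asIdeal, m.isMaximal.isPrime⟩,
        (PrimeSpectrum.isClosed_singleton_iff_isMaximal _).2 m.isMaximal⟩)
  have hr : ∀ b, G b ∈ F.range := by
    intro b
    obtain ⟨a, ha⟩ := IdentifiesLocal.exists_global hA (G b) fun n => by
      obtain ⟨a, s, t, hs, ht, h0⟩ := IdentifiesLocal.exists_rep_at (σ n) (h n) b
      obtain ⟨W, hW, hnW, hWst⟩ := compact_exists_isClopen_in_isOpen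
        ((PrimeSpectrum.basicOpen (algebraMap A B s * t)).isOpen.preimage hσ) (x := n)
        ((σ n).2.mul_notMem hs ht)
      refine ⟨W, a, s, hW, hnW, fun y hy => ⟨fun hh => hWst hy (Ideal.mul_mem_right _ _
        (hcomap y ▸ hh : s ∈ (σ y).asIdeal.comap (algebraMap A B))), (hg y).1 ?_⟩⟩
      rw [map_mul, hG]
      show _ * g y (algebraMap A _ s) = g y (algebraMap A _ a)
      rw [(g y).commutes, (g y).commutes, IsScalarTower.algebraMap_apply A B
        (Localization.AtPrime (σ y).asIdeal), IsScalarTower.algebraMap_apply A B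
        (Localization.AtPrime (σ y).asIdeal), ← map_mul]
      refine (IsLocalization.eq_iff_exists (σ y).asIdeal.primeCompl _).2
        ⟨⟨t, fun hh => hWst hy (Ideal.mul_mem_left _ _ hh)⟩, ?_⟩
      show t * (b * _) = t * _
      linear_combination h0
    exact ⟨a, funext ha⟩
  exact ⟨(AlgEquiv.ofInjective F Finj).symm.toAlgHom.comp (G.codRestrict F.range hr)⟩

/-- A continuous section over the closed points gives a retraction. -/
theorem nonempty_retraction (hA : ProEtW.IsWLocal (PrimeSpectrum A))
    (h : EtPBC.IdentifiesLocalRings A B) (σ : IdentifiesLocal.C0 A → PrimeSpectrum B)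
    (hσ : Continuous σ) (hσA : ∀ n, PrimeSpectrum.comap (algebraMap A B) (σ n) = n.1) :
    Nonempty (B →ₐ[A] A) :=
  nonempty_retraction_of_section hA σ (fun n => h (σ n)) hσ hσA

end Groth.Agent.ProEtW.Retraction
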