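import Groth.Agent.IndAlg.EtaleLift
import Mathlib.RingTheory.Etale.StandardEtale
import Mathlib.RingTheory.Henselian
import Mathlib.FieldTheory.IsSepClosed
import Mathlib.RingTheory.Polynomial.ScaleRoots
import Mathlib.RingTheory.LocalRing.ResidueField.Ideal
import Groth.Prelude.Def_ProEtW

/-!
Rings with etale retractions are strictly henselian at their maximal ideals.
-/

universe u

namespace Groth.Agent.ProEtW.StrictlyHenselian

open Polynomial

variable {A : Type u} [CommRing A] (h : ProEtW.HasEtaleRetractions A) (m : Ideal A) [m.IsMaximal]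

include h

/-- An etale algebra with a prime over `m` has a section over `A_m`. -/
theorem exists_hom_localization (E : Type u) [CommRing E] [Algebra A E] [Algebra.Etale A E]
    (L : Type u) [Field L] [Algebra A L] (hker : RingHom.ker (algebraMap A L) = m) (κ : E →ₐ[A] L) :
    Nonempty (E →ₐ[A] Localization.AtPrime m) := by
  classical
  have hopen : IsOpen (Set.range (PrimeSpectrum.comap (algebraMap A E))) :=
    (PrimeSpectrum.isOpenMap_comap_of_hasGoingDown_of_finitePresentation).isOpen_range
  have hm : (⟨m, inferInstance⟩ : PrimeSpectrum A) ∈ Set.range (PrimeSpectrum.comap (algebraMap A E)) := by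
    refine ⟨⟨RingHom.ker κ.toRingHom, RingHom.ker_isPrime _⟩, PrimeSpectrum.ext ?_⟩
    show (RingHom.ker κ.toRingHom).comap (algebraMap A E) = m
    rw [RingHom.comap_ker, AlgHom.toRingHom_eq_coe, AlgHom.comp_algebraMap, hker]
  obtain ⟨t, htm, ht⟩ : ∃ t : Finset A, (t : Set A) ⊆ m ∧ ∀ p : PrimeSpectrum A,
      p ∈ Set.range (PrimeSpectrum.comap (algebraMap A E)) ∨ ∃ f ∈ t, f ∉ p.asIdeal := by
    obtain ⟨t, ht⟩ := hopen.isClosed_compl.isCompact.elim_finite_subcover
      (fun f : m => (PrimeSpectrum.basicOpen f.1 : Set (PrimeSpectrum A)))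
      (fun f => PrimeSpectrum.isOpen_basicOpen) (fun p hp => by
        have : ¬ (m : Set A) ⊆ p.asIdeal := fun hle =>
          hp (by
            have : p = ⟨m, inferInstance⟩ :=
              PrimeSpectrum.ext ((Ideal.IsMaximal.eq_of_le ‹_› p.isPrime.ne_top hle).symm)
            rw [this]; exact hm)
        obtain ⟨f, hf, hfp⟩ := Set.not_subset.1 this
        exact Set.mem_iUnion.2 ⟨⟨f, hf⟩, hfp⟩)
    refine ⟨t.image Subtype.val, by intro x; simp +contextual, fun p => ?_⟩
    by_cases hp : p ∈ Set.range (PrimeSpectrum.comap (algebraMap A E))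
    · exact Or.inl hp
    · obtain ⟨f, hf, hfp⟩ := Set.mem_iUnion₂.1 (ht hp)
      exact Or.inr ⟨f.1, Finset.mem_image_of_mem _ hf, hfp⟩
  have : ∀ f : t, Algebra.Etale A (Localization.Away f.1) := fun f =>
    Algebra.Etale.of_isLocalizationAway f.1
  have hD := IndAlg.EtaleLift.etale_prod A E ((f : t) → Localization.Away f.1)
  obtain ⟨r⟩ := h _ (IndAlg.EtaleLift.faithfullyFlat_prod ht) hD
  let φ : E × ((f : t) → Localization.Away f.1) →ₐ[A] Localization.AtPrime m :=
    (Algebra.ofId A _).comp r
  have hmem : φ (0, 1) ∈ IsLocalRing.maximalIdeal (Localization.AtPrime m) := by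
    rw [← Ideal.Quotient.eq_zero_iff_mem]
    refine IndAlg.EtaleLift.hom_pi_one_eq_zero
      ((Ideal.Quotient.mkₐ A (IsLocalRing.maximalIdeal (Localization.AtPrime m))).comp φ) fun f => ?_
    show Ideal.Quotient.mk _ (algebraMap A (Localization.AtPrime m) f.1) = 0
    rw [Ideal.Quotient.eq_zero_iff_mem]
    exact (IsLocalization.AtPrime.to_map_mem_maximal_iff (Localization.AtPrime m) m f.1).2 (htm f.2)
  refine IndAlg.EtaleLift.nonempty_hom_fst φ ?_
  have hid : φ (0, 1) * φ (0, 1) = φ (0, 1) := by
    rw [← map_mul]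
    simp
  have hu : IsUnit (1 - φ (0, 1)) := by
    rcases IsLocalRing.isUnit_or_isUnit_one_sub_self (φ (0, 1)) with hu | hu
    · exact absurd hu hmem
    · exact hu
  refine hu.mul_right_eq_zero.1 ?_
  rw [sub_mul, one_mul, hid, sub_self]

theorem isSepClosed : IsSepClosed m.ResidueField := by
  refine IsSepClosed.of_exists_root _ fun p hp _ hsep => ?_
  obtain ⟨F, hF, -, hFm⟩ := Polynomial.lifts_and_degree_eq_and_monic
    (Polynomial.mem_lifts_of_surjective (f := algebraMap A m.ResidueField)
      m.algebraMap_residueField_surjective p) hp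
  let P : StandardEtalePair A := ⟨F, hFm, derivative F, 1, 0, 1, by simp⟩
  have hdeg : p.degree ≠ 0 := by
    intro h0
    exact (‹Irreducible p›).not_isUnit (isUnit_iff_degree_eq_zero.2 h0)
  obtain ⟨x, hx⟩ := IsAlgClosed.exists_root (p.map (algebraMap m.ResidueField (AlgebraicClosure m.ResidueField))) (by rwa [degree_map])
  have hmap : P.HasMap x := by
    have h1 : aeval x p = 0 := by rwa [IsRoot, eval_map_algebraMap] at hx
    constructor
    · show aeval x F = 0
      rw [← aeval_map_algebraMap m.ResidueField, hF, h1]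
    · show IsUnit (aeval x (derivative F))
      rw [← aeval_map_algebraMap m.ResidueField, ← derivative_map, hF]
      exact (hsep.aeval_derivative_ne_zero h1).isUnit
  have hker : RingHom.ker (algebraMap A (AlgebraicClosure m.ResidueField)) = m := by
    rw [IsScalarTower.algebraMap_eq A m.ResidueField, RingHom.ker_comp_of_injective _
      (algebraMap m.ResidueField _).injective, Ideal.ker_algebraMap_residueField]
  obtain ⟨φ⟩ := exists_hom_localization h m P.Ring (AlgebraicClosure m.ResidueField) hker (P.lift x hmap)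
  let ψ : P.Ring →ₐ[A] m.ResidueField :=
    (IsScalarTower.toAlgHom A (Localization.AtPrime m) m.ResidueField).comp φ
  refine ⟨ψ P.X, ?_⟩
  rw [← coe_aeval_eq_eval, ← hF, aeval_map_algebraMap]
  exact (P.hasMap_X.map ψ).1

theorem henselian : HenselianLocalRing (Localization.AtPrime m) := by
  classical
  set R := Localization.AtPrime m
  constructor
  intro f hf a₀ h0 hd
  obtain ⟨s, hs⟩ := IsLocalization.exist_integer_multiples m.primeCompl (Finset.range f.natDegree) f.coeff
  set S : R := algebraMap A R (s : A)
  have hS : IsUnit S := IsLocalization.map_units R s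
  obtain ⟨n, hn⟩ : ∃ n, f.natDegree = n := ⟨_, rfl⟩
  have hlifts : f.scaleRoots S ∈ lifts (algebraMap A R) := by
    rw [lifts_iff_coeff_lifts]
    intro i
    rw [coeff_scaleRoots]
    rcases lt_trichotomy i f.natDegree with hi | rfl | hi
    · obtain ⟨b, hb⟩ := hs i (Finset.mem_range.2 hi)
      refine ⟨b * (s : A) ^ (f.natDegree - i - 1), ?_⟩
      rw [map_mul, map_pow, hb, Algebra.smul_def,
        show f.natDegree - i = (f.natDegree - i - 1) + 1 by omega, pow_succ]
      simp only [Nat.add_sub_cancel]
      ring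
    · exact ⟨1, by rw [map_one, Nat.sub_self, pow_zero, mul_one]; exact hf.symm⟩
    · exact ⟨0, by rw [map_zero, coeff_eq_zero_of_natDegree_lt hi, zero_mul]⟩
  obtain ⟨F, hF, -, hFm⟩ := lifts_and_degree_eq_and_monic hlifts ((monic_scaleRoots_iff S).2 hf)
  have hcomp : (F.map (algebraMap A R)).comp (C S * X) = C (S ^ n) * f := by
    rw [hF, ← hn, C_pow, comp, scaleRoots_eval₂_mul, eval₂_C_X]
  have he0 : (F.map (algebraMap A R)).eval (S * a₀) = S ^ n * f.eval a₀ := by
    have := congrArg (eval a₀) hcomp
    simp only [eval_comp, eval_mul, eval_C, eval_X] at this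
    exact this
  have hd0 : S * (F.map (algebraMap A R)).derivative.eval (S * a₀) = S ^ n * f.derivative.eval a₀ := by
    have := congrArg (fun q => eval a₀ (derivative q)) hcomp
    simp only [derivative_comp, derivative_C_mul, derivative_X, mul_one, eval_mul, eval_C, eval_comp,
      eval_X] at this
    exact this
  -- reduce to the residue field
  let π : R →+* m.ResidueField := algebraMap R m.ResidueField
  have hπ0 : ∀ x ∈ IsLocalRing.maximalIdeal R, π x = 0 := fun x hx =>
    Ideal.Quotient.eq_zero_iff_mem.2 hx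
  set β : m.ResidueField := π (S * a₀)
  let Fk := F.map (algebraMap A m.ResidueField)
  have hFk : Fk = (F.map (algebraMap A R)).map π := by
    rw [map_map]; rfl
  have hroot : Fk.IsRoot β := by
    rw [IsRoot, hFk, eval_map, eval₂_hom, he0, map_mul, hπ0 _ h0, mul_zero]
  have hderiv : Fk.derivative.eval β ≠ 0 := by
    intro hz
    rw [hFk, derivative_map, eval_map, eval₂_hom] at hz
    have := congrArg π hd0
    rw [map_mul, hz, mul_zero] at this
    exact (((hS.pow n).mul hd).map π).ne_zero this.symm
  set q := Fk /ₘ (X - C β) with hqdef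
  have hq : (X - C β) * q = Fk := mul_divByMonic_eq_iff_isRoot.2 hroot
  obtain ⟨Q, hQ⟩ := (mem_lifts q).1 (mem_lifts_of_surjective (f := algebraMap A m.ResidueField)
    m.algebraMap_residueField_surjective q)
  let P : StandardEtalePair A := ⟨F, hFm, derivative F * Q, Q, 0, 1, by simp⟩
  have hqβ : q.eval β ≠ 0 := by
    have := congrArg (fun p => eval β (derivative p)) hq
    simp at this
    rw [this]
    exact hderiv
  have hmap : P.HasMap β := by
    constructor
    · show aeval β F = 0
      rw [← aeval_map_algebraMap m.ResidueField, coe_aeval_eq_eval]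
      exact hroot
    · show IsUnit (aeval β (derivative F * Q))
      rw [← aeval_map_algebraMap m.ResidueField, coe_aeval_eq_eval, Polynomial.map_mul,
        ← derivative_map, hQ, eval_mul]
      exact (mul_ne_zero hderiv hqβ).isUnit
  obtain ⟨φ⟩ := exists_hom_localization h m P.Ring m.ResidueField m.ker_algebraMap_residueField
    (P.lift β hmap)
  obtain ⟨hb1, hb2⟩ := P.hasMap_X.map φ
  set b : R := φ P.X
  have hb : π b = β := by
    have h1 : Fk.eval (π b) = 0 := by
      rw [hFk, eval_map, eval₂_hom, eval_map_algebraMap]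
      exact (congrArg π hb1).trans (map_zero π)
    have h2 : q.eval (π b) ≠ 0 := by
      intro hz
      have h3 : π (aeval b (derivative F * Q)) ≠ 0 := (hb2.map π).ne_zero
      apply h3
      rw [← IsScalarTower.coe_toAlgHom' A R m.ResidueField] at h3 ⊢
      rw [← aeval_algHom_apply, ← eval_map_algebraMap, Polynomial.map_mul, eval_mul, hQ]
      exact mul_eq_zero_of_right _ hz
    rw [← hq, eval_mul, mul_eq_zero] at h1
    simpa [sub_eq_zero] using h1.resolve_right h2
  obtain ⟨T, hT⟩ := hS.exists_right_inv
  refine ⟨b * T, ?_, ?_⟩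
  · have := congrArg (eval (b * T)) hcomp
    simp only [eval_comp, eval_mul, eval_C, eval_X, mul_left_comm S b T, hT, mul_one,
      eval_map_algebraMap] at this
    exact (hS.pow n).mul_right_eq_zero.1 (this.symm.trans hb1)
  · refine Ideal.Quotient.eq_zero_iff_mem.1 ?_
    show π (b * T - a₀) = 0
    rw [map_sub, map_mul, hb, sub_eq_zero]
    show π (S * a₀) * π T = π a₀
    rw [← map_mul, mul_right_comm, hT, one_mul]

end Groth.Agent.ProEtW.StrictlyHenselian
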