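import Groth.Agent.WEtale.Local
import Groth.Agent.ProEtW.Retraction
import Groth.Agent.ProEtW.StrictlyHenselian
import Groth.Agent.IndAlg.EtTower
import Mathlib.Topology.ExtremallyDisconnected
import Mathlib.Topology.Compactification.StoneCech

/-!
w-contractible rings.
-/

universe u

open scoped TensorProduct

namespace Groth.Agent.ProEtW.Contractible

open Set Topology
open Groth.Agent.ProEtW

variable {A B : Type u} [CommRing A] [CommRing B] [Algebra A B]

/-- Points over closed points are closed for weakly etale maps. -/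
theorem isClosed_singleton_of_comap [Algebra.WeaklyEtale A B] {q : PrimeSpectrum B}
    (hq : IsClosed ({PrimeSpectrum.comap (algebraMap A B) q} : Set (PrimeSpectrum A))) :
    IsClosed ({q} : Set (PrimeSpectrum B)) := by
  rw [PrimeSpectrum.isClosed_singleton_iff_isMaximal] at hq ⊢
  let n : Ideal A := q.asIdeal.comap (algebraMap A B)
  have : n.IsMaximal := hq
  let : Field (A ⧸ n) := Ideal.Quotient.field n
  let inc : B →ₐ[A] (A ⧸ n) ⊗[A] B := Algebra.TensorProduct.includeRight
  have hsurj : Function.Surjective inc := by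
    intro z
    induction z using TensorProduct.induction_on with
    | zero => exact ⟨0, map_zero _⟩
    | tmul c y =>
      obtain ⟨a, rfl⟩ := Ideal.Quotient.mk_surjective c
      refine ⟨a • y, ?_⟩
      rw [Algebra.TensorProduct.includeRight_apply, ← TensorProduct.smul_tmul, Algebra.smul_def, mul_one]
      rfl
    | add x y hx hy =>
      obtain ⟨a, rfl⟩ := hx
      obtain ⟨c, rfl⟩ := hy
      exact ⟨a + c, map_add _ _ _⟩
  let χ : (A ⧸ n) ⊗[A] B →ₐ[A] B ⧸ q.asIdeal :=
    Algebra.TensorProduct.lift (Ideal.Quotient.liftₐ n (Algebra.ofId A (B ⧸ q.asIdeal))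
      fun a ha => Ideal.Quotient.eq_zero_iff_mem.2 ha) (Ideal.Quotient.mkₐ A q.asIdeal)
      fun _ _ => Commute.all _ _
  refine Ideal.Quotient.maximal_of_isField _ ⟨⟨0, 1, zero_ne_one⟩, mul_comm, fun {x} hx => ?_⟩
  obtain ⟨x, rfl⟩ := Ideal.Quotient.mk_surjective x
  obtain ⟨w, hw⟩ := Groth.Agent.WEtale.absFlat (A ⧸ n) ((A ⧸ n) ⊗[A] B) (inc x)
  obtain ⟨z, rfl⟩ := hsurj w
  have hχ : ∀ b, χ (inc b) = Ideal.Quotient.mk q.asIdeal b := fun b =>
    (Algebra.TensorProduct.lift_tmul _ _ _ _ _).trans (by rw [map_one, one_mul]; rfl)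
  have h1 := congrArg χ hw
  rw [map_mul, map_mul, hχ, hχ] at h1
  exact ⟨Ideal.Quotient.mk _ z, mul_left_cancel₀ hx (by rw [mul_one]; linear_combination -h1)⟩

/-- Weakly etale algebras over a ring with w-local spectrum and strictly henselian closed points
identify local rings along closed points. -/
theorem bijective_over_closedPoint [Algebra.WeaklyEtale A B]
    (hA : ∀ (m : Ideal A) [m.IsMaximal], EtCoh.IsStrictlyHenselianLocalRing (Localization.AtPrime m))
    (q : PrimeSpectrum B)
    (hq : IsClosed ({PrimeSpectrum.comap (algebraMap A B) q} : Set (PrimeSpectrum A))) :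
    Function.Bijective (Localization.localRingHom (q.asIdeal.comap (algebraMap A B)) q.asIdeal
      (algebraMap A B) rfl) := by
  rw [PrimeSpectrum.isClosed_singleton_iff_isMaximal] at hq
  have : (q.asIdeal.comap (algebraMap A B)).IsMaximal := hq
  exact Groth.Agent.WEtale.Local.bijective_localRingHom _ _ rfl (hA _)

theorem isWContractible (hA : ProEtW.IsWLocal (PrimeSpectrum A))
    (hED : ExtremallyDisconnected (_root_.ConnectedComponents (PrimeSpectrum A)))
    (hsh : ∀ (m : Ideal A) [m.IsMaximal], EtCoh.IsStrictlyHenselianLocalRing (Localization.AtPrime m)) :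
    EtPBC.IsWContractible A := by
  intro B _ _ hff hw
  obtain ⟨_, _, _⟩ := IdentifiesLocal.isProfinite_C0 hA
  obtain ⟨e, -⟩ := Retraction.exists_homeomorph_pi0 hA
  have : ExtremallyDisconnected (IdentifiesLocal.C0 A) := extremallyDisconnected_of_homeo e.symm
  let K : Set (PrimeSpectrum B) :=
    PrimeSpectrum.comap (algebraMap A B) ⁻¹' ProEtW.closedPoints (PrimeSpectrum A)
  have hK : IsClosed K := hA.2.1.preimage (PrimeSpectrum.continuous_comap _)
  have : SpectralSpace K := Spectral.spectralSpace_subtype hK
  have : T1Space K := ⟨fun x => by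
    have : ({x} : Set K) = Subtype.val ⁻¹' {x.1} := by ext; simp [Subtype.ext_iff]
    rw [this]
    exact (isClosed_singleton_of_comap x.2).preimage continuous_subtype_val⟩
  have : T2Space K := Spectral.t2Space_of_t1Space
  let p : K → IdentifiesLocal.C0 A := fun q => ⟨PrimeSpectrum.comap (algebraMap A B) q.1, q.2⟩
  have hp : Continuous p :=
    ((PrimeSpectrum.continuous_comap _).comp continuous_subtype_val).subtype_mk _
  have hps : Function.Surjective p := by
    intro n
    have := hff
    obtain ⟨q, hq⟩ := PrimeSpectrum.comap_surjective_of_faithfullyFlat (A := A) (B := B) n.1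
    exact ⟨⟨q, show PrimeSpectrum.comap (algebraMap A B) q ∈ ProEtW.closedPoints _ from hq ▸ n.2⟩,
      Subtype.ext hq⟩
  obtain ⟨σ, hσ, hσp⟩ := CompactT2.ExtremallyDisconnected.projective continuous_id hp hps
  have hσn : ∀ n, PrimeSpectrum.comap (algebraMap A B) (σ n).1 = n.1 := fun n =>
    congrArg Subtype.val (congrFun hσp n)
  exact Retraction.nonempty_retraction_of_section hA (fun n => (σ n).1)
    (fun n => bijective_over_closedPoint hsh _ (hσn n ▸ n.2)) (continuous_subtype_val.comp hσ) hσn

theorem hasEtaleRetractions (h : EtPBC.IsWContractible A) : ProEtW.HasEtaleRetractions A :=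
  fun B _ _ hff het => have := het; h B hff inferInstance

theorem hasIndZariskiRetractions (h : EtPBC.IsWContractible A) : ProEtW.HasIndZariskiRetractions A :=
  fun B _ _ hff hz => h B hff
    (Groth.Agent.IndAlg.Etale.weaklyEtale (Groth.Agent.WEtale.Local.fac_of_isIndZariski hz))

theorem projective_ultrafilter (X : Type u) : CompactT2.Projective (Ultrafilter X) := by
  intro Y Z _ _ _ _ _ _ f g hf hg hgs
  choose s hs using hgs
  refine ⟨Ultrafilter.extend (s ∘ f ∘ pure), continuous_ultrafilter_extend _,
    denseRange_pure.equalizer (hg.comp (continuous_ultrafilter_extend _)) hf ?_⟩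
  ext x
  simp [ultrafilter_extend_pure, hs]

/-- A faithfully flat ind-etale algebra with a closed set of closed points that maps onto the spectrum,
with strictly henselian local rings there, gives a w-contractible cover. -/
theorem exists_wContractible (A : Type u) [CommRing A] :
    ∃ (D : Type u) (_ : CommRing D) (_ : Algebra A D), Module.FaithfullyFlat A D ∧
      Groth.Agent.IndAlg.Fac (Groth.Agent.IndAlg.Etale.Et A) D ∧
      ProEtW.IsWLocal (PrimeSpectrum D) ∧
      ExtremallyDisconnected (_root_.ConnectedComponents (PrimeSpectrum D)) ∧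
      (∀ (m : Ideal D) [m.IsMaximal], EtCoh.IsStrictlyHenselianLocalRing (Localization.AtPrime m)) ∧
      PrimeSpectrum.comap (algebraMap A D) '' ProEtW.closedPoints (PrimeSpectrum D) = Set.univ := by
  let h₀ : WithConstructibleTopology (PrimeSpectrum A) → WithConstructibleTopology (PrimeSpectrum A) :=
    id
  have hh₀ : Continuous h₀ := continuous_id
  let Aw := LocFrac.Ring (WLocalization.sub h₀)
  let C := Groth.Agent.IndAlg.EtTower.Ring Aw
  let alg : Algebra A C := ((algebraMap Aw C).comp (algebraMap A Aw)).toAlgebra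
  have : IsScalarTower A Aw C := .of_algebraMap_eq fun _ => rfl
  have hfC := Groth.Agent.IndAlg.EtTower.fac Aw
  have : Algebra.WeaklyEtale Aw C := Groth.Agent.IndAlg.Etale.weaklyEtale hfC
  let K : Set (PrimeSpectrum C) :=
    PrimeSpectrum.comap (algebraMap Aw C) ⁻¹' ProEtW.closedPoints (PrimeSpectrum Aw)
  have hK : IsClosed K :=
    (WLocalization.isClosed_closedPoints hh₀).preimage (PrimeSpectrum.continuous_comap _)
  have : SpectralSpace K := Spectral.spectralSpace_subtype hK
  have hKmax : ∀ q ∈ K, IsClosed ({q} : Set (PrimeSpectrum C)) :=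
    fun q hq => isClosed_singleton_of_comap hq
  have : T1Space K := ⟨fun x => by
    have : ({x} : Set K) = Subtype.val ⁻¹' {x.1} := by ext; simp [Subtype.ext_iff]
    rw [this]
    exact (hKmax x.1 x.2).preimage continuous_subtype_val⟩
  have : T2Space K := Spectral.t2Space_of_t1Space
  let T := Ultrafilter K
  let g : T → K := Ultrafilter.extend id
  let hT : T → WithConstructibleTopology (PrimeSpectrum C) := fun t =>
    WithTopology.toTopology _ (g t).1
  have hhT : Continuous hT := by
    refine Continuous.comp (g := fun x : K => WithTopology.toTopology _ x.1) ?_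
      (continuous_ultrafilter_extend id)
    refine WLocalization.continuous_of_isClopen fun U hU hUc =>
      ⟨?_, hU.preimage continuous_subtype_val⟩
    exact (hK.isClosedEmbedding_subtypeVal.isCompact_preimage hUc).isClosed
  let D := LocFrac.Ring (WLocalization.sub hT)
  let algD : Algebra A D := ((algebraMap C D).comp (algebraMap A C)).toAlgebra
  have : IsScalarTower A C D := .of_algebraMap_eq fun _ => rfl
  have hfAw : Groth.Agent.IndAlg.Fac (Groth.Agent.IndAlg.Etale.Et A) Aw :=
    Groth.Agent.WEtale.Local.fac_of_isIndZariski (WLocalization.isIndZariski hh₀)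
  have hfD : Groth.Agent.IndAlg.Fac (Groth.Agent.IndAlg.Etale.Et A) D :=
    Groth.Agent.IndAlg.Etale.fac_trans (Groth.Agent.IndAlg.Etale.fac_trans hfAw hfC)
      (Groth.Agent.WEtale.Local.fac_of_isIndZariski (WLocalization.isIndZariski hhT))
  obtain ⟨e, -⟩ := WLocalization.exists_pi0 hhT
  have hsurj : ∀ x, ∃ Q ∈ ProEtW.closedPoints (PrimeSpectrum D),
      PrimeSpectrum.comap (algebraMap A D) Q = x := by
    intro x
    obtain ⟨z, hz⟩ := WLocalization.exists_closedPt hh₀ (WithTopology.toTopology _ x)
    have hzc : z ∈ ProEtW.closedPoints (PrimeSpectrum Aw) :=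
      (WLocalization.isClosed_singleton_iff hh₀ z).2 (by rw [hz])
    have := Groth.Agent.IndAlg.EtTower.faithfullyFlat Aw
    obtain ⟨q, hq⟩ := PrimeSpectrum.comap_surjective_of_faithfullyFlat (A := Aw) (B := C) z
    have hqK : q ∈ K := show PrimeSpectrum.comap _ q ∈ _ from hq ▸ hzc
    obtain ⟨Q, hQ⟩ := WLocalization.exists_closedPt hhT (pure ⟨q, hqK⟩)
    refine ⟨Q, (WLocalization.isClosed_singleton_iff hhT Q).2 (by rw [hQ]), ?_⟩
    show PrimeSpectrum.comap ((algebraMap C D).comp ((algebraMap Aw C).comp (algebraMap A Aw))) Q = x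
    rw [PrimeSpectrum.comap_comp_apply, PrimeSpectrum.comap_comp_apply]
    have h1 : PrimeSpectrum.comap (algebraMap C D) Q = q := (congr_arg Prod.fst hQ).trans
      (show (g (pure ⟨q, hqK⟩)).1 = q by rw [show g (pure ⟨q, hqK⟩) = ⟨q, hqK⟩ from
        ultrafilter_extend_pure _ _])
    rw [h1, hq]
    exact congr_arg Prod.fst hz
  refine ⟨D, inferInstance, algD, ?_, hfD, WLocalization.isWLocal hhT, ?_, fun m hm => ?_,
    Set.eq_univ_of_forall hsurj⟩
  · have := Groth.Agent.IndAlg.Etale.flat hfD
    exact Module.FaithfullyFlat.of_comap_surjective fun x => let ⟨Q, _, hQ⟩ := hsurj x; ⟨Q, hQ⟩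
  · have : ExtremallyDisconnected T :=
      CompactT2.Projective.extremallyDisconnected (projective_ultrafilter K)
    exact extremallyDisconnected_of_homeo e.symm
  · let Q : PrimeSpectrum D := ⟨m, hm.isPrime⟩
    have hQc := (WLocalization.isClosed_singleton_iff hhT Q).1
      ((PrimeSpectrum.isClosed_singleton_iff_isMaximal Q).2 hm)
    have hmax : (m.comap (algebraMap C D)).IsMaximal := by
      refine (PrimeSpectrum.isClosed_singleton_iff_isMaximal (PrimeSpectrum.comap (algebraMap C D) Q)).1 ?_
      rw [show PrimeSpectrum.comap (algebraMap C D) Q = (g (LocFrac.pt Q)).1 from hQc]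
      exact hKmax _ (g (LocFrac.pt Q)).2
    exact Groth.Agent.WEtale.Local.strictlyHenselian_of_ringEquiv
      (RingEquiv.ofBijective _ (IdentifiesLocal.identifies_locFrac (WLocalization.isOpen_sub hhT) Q))
      ⟨StrictlyHenselian.henselian (Groth.Agent.IndAlg.EtTower.hasEtaleRetractions Aw) _,
        StrictlyHenselian.isSepClosed (Groth.Agent.IndAlg.EtTower.hasEtaleRetractions Aw) _⟩

end Groth.Agent.ProEtW.Contractible
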