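import Groth.Agent.ProEtW.Spectral
import Mathlib.RingTheory.QuasiFinite.Basic
import Mathlib.RingTheory.Kaehler.Basic
import Mathlib.RingTheory.Spectrum.Prime.Chevalley
import Mathlib.FieldTheory.PurelyInseparable.Basic
import Mathlib.FieldTheory.IsAlgClosed.AlgebraicClosure
import Mathlib.Topology.ExtremallyDisconnected

/-!
Quasi-finite finitely presented algebras over rings with a profinite spectrum and separably closed
residue fields: the map on spectra is a local homeomorphism.
-/

universe u

open scoped TensorProduct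

namespace Groth.Agent.ProEtW.QuasiFiniteED

open Set Topology Groth.Agent.ProEtW

theorem isClopen_of_isConstructible {X : Type*} [TopologicalSpace X] [CompactSpace X] [T2Space X]
    {s : Set X} (hs : IsConstructible s) : IsClopen s := by
  induction hs using IsConstructible.empty_union_induction with
  | open_retrocompact U hU hUc => exact ⟨hUc.isCompact.isClosed, hU⟩
  | union s hs t ht hs' ht' => exact hs'.union ht'
  | compl s hs hs' => exact hs'.compl

/-- A space locally openly embedded in an extremally disconnected space is extremally disconnected. -/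
theorem extremallyDisconnected_of_local {X Y : Type*} [TopologicalSpace X] [TopologicalSpace Y]
    [ExtremallyDisconnected Y] {f : X → Y} (hf : Continuous f) (ho : IsOpenMap f)
    (hinj : ∀ x, ∃ U : Set X, IsOpen U ∧ x ∈ U ∧ InjOn f U) : ExtremallyDisconnected X where
  open_closure V hV := by
    rw [isOpen_iff_forall_mem_open]
    intro x hx
    obtain ⟨U, hU, hxU, hfU⟩ := hinj x
    refine ⟨U ∩ f ⁻¹' closure (f '' (U ∩ V)), fun y ⟨hyU, hy⟩ => ?_,
      hU.inter ((ExtremallyDisconnected.open_closure _ (ho _ (hU.inter hV))).preimage hf), hxU, ?_⟩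
    · rw [mem_closure_iff]
      intro W hW hyW
      obtain ⟨_, ⟨w, hw, rfl⟩, z, hz, hwz⟩ :=
        mem_closure_iff.1 hy (f '' (U ∩ W)) (ho _ (hU.inter hW)) ⟨y, ⟨hyU, hyW⟩, rfl⟩
      exact ⟨w, hw.2, (hfU hw.1 hz.1 hwz.symm) ▸ hz.2⟩
    · exact hf.continuousAt.continuousWithinAt.mem_closure_image (hU.inter_closure ⟨hxU, hx⟩)

variable {A B : Type u} [CommRing A] [CommRing B] [Algebra A B]

theorem t2Space_of_quasiFinite [T2Space (PrimeSpectrum A)] [Algebra.QuasiFinite A B] :
    T2Space (PrimeSpectrum B) := by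
  have : T1Space (PrimeSpectrum B) := ⟨fun q => by
    rw [PrimeSpectrum.isClosed_singleton_iff_isMaximal]
    obtain ⟨m, hm, hqm⟩ := Ideal.exists_le_maximal _ q.isPrime.ne_top
    have : (q.asIdeal.under A).IsMaximal :=
      (PrimeSpectrum.isClosed_singleton_iff_isMaximal
        (PrimeSpectrum.comap (algebraMap A B) q)).1 isClosed_singleton
    rwa [Algebra.QuasiFinite.eq_of_le_of_under_eq (R := A) q.asIdeal m hqm
      (this.eq_of_le (Ideal.comap_ne_top _ hm.ne_top) (Ideal.comap_mono hqm))]⟩
  exact Spectral.t2Space_of_t1Space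

theorem isOpenMap_comap [T2Space (PrimeSpectrum A)] [T2Space (PrimeSpectrum B)]
    [Algebra.FinitePresentation A B] : IsOpenMap (PrimeSpectrum.comap (algebraMap A B)) := by
  rw [PrimeSpectrum.isTopologicalBasis_basic_opens.isOpenMap_iff]
  rintro _ ⟨f, rfl⟩
  refine (isClopen_of_isConstructible (PrimeSpectrum.isConstructible_comap_image
    (RingHom.finitePresentation_algebraMap.mpr ‹_›) ?_)).2
  exact ((PrimeSpectrum.isCompact_basicOpen f).isRetrocompact PrimeSpectrum.isOpen_basicOpen).isConstructible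
    PrimeSpectrum.isOpen_basicOpen

/-- Two maps out of the residue field of a point over a separably closed field agree. -/
theorem algHom_residueField_eq [Algebra.QuasiFinite A B] (p : Ideal A) [p.IsPrime] (q : Ideal B)
    [q.IsPrime] (hpq : p = q.comap (algebraMap A B)) [IsSepClosed p.ResidueField]
    {L : Type u} [Field L] [Algebra A L] (i₁ i₂ : q.ResidueField →ₐ[A] L) : i₁ = i₂ := by
  let : Algebra p.ResidueField q.ResidueField :=
    (Ideal.ResidueField.map p q (algebraMap A B) hpq).toAlgebra
  have : IsScalarTower A p.ResidueField q.ResidueField := .of_algebraMap_eq fun a =>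
    (IsScalarTower.algebraMap_apply A B q.ResidueField a).trans
      (Ideal.ResidueField.map_algebraMap p q (algebraMap A B) hpq a).symm
  have : Algebra.QuasiFinite p.ResidueField q.ResidueField :=
    Algebra.QuasiFinite.of_restrictScalars A _ _
  have : Module.Finite p.ResidueField q.ResidueField := .of_quasiFinite
  let : Algebra p.ResidueField L := ((i₁ : q.ResidueField →+* L).comp
    (algebraMap p.ResidueField q.ResidueField)).toAlgebra
  let j₁ : q.ResidueField →ₐ[p.ResidueField] L := { (i₁ : q.ResidueField →+* L) with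
    commutes' := fun _ => rfl }
  let j₂ : q.ResidueField →ₐ[p.ResidueField] L := { (i₂ : q.ResidueField →+* L) with
    commutes' := fun x => by
      refine congr($(Ideal.ResidueField.ringHom_ext (f := (i₂ : q.ResidueField →+* L).comp
        (algebraMap p.ResidueField q.ResidueField)) (g := algebraMap p.ResidueField L)
        (RingHom.ext fun a => ?_)) x)
      show i₂ (algebraMap _ _ (algebraMap A p.ResidueField a)) =
        i₁ (algebraMap _ _ (algebraMap A p.ResidueField a))
      rw [← IsScalarTower.algebraMap_apply, i₁.commutes, i₂.commutes] }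
  exact AlgHom.ext fun x => congr($(Subsingleton.elim j₁ j₂) x)

theorem exists_injOn [T2Space (PrimeSpectrum A)] [Algebra.QuasiFinite A B]
    [Algebra.FiniteType A B] (hres : ∀ p : PrimeSpectrum A, IsSepClosed p.asIdeal.ResidueField)
    (q : PrimeSpectrum B) : ∃ f : B, f ∉ q.asIdeal ∧
      InjOn (PrimeSpectrum.comap (algebraMap A B)) (PrimeSpectrum.basicOpen f) := by
  classical
  have hB : T2Space (PrimeSpectrum B) := t2Space_of_quasiFinite (A := A)
  have hC : T2Space (PrimeSpectrum (B ⊗[A] B)) := t2Space_of_quasiFinite (A := B)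
  let iL : B →ₐ[A] B ⊗[A] B := Algebra.TensorProduct.includeLeft
  let iR : B →ₐ[A] B ⊗[A] B := Algebra.TensorProduct.includeRight
  obtain ⟨T, hT⟩ := KaehlerDifferential.ideal_fg A B
  let Δ : Set (PrimeSpectrum (B ⊗[A] B)) :=
    PrimeSpectrum.zeroLocus (KaehlerDifferential.ideal A B : Set (B ⊗[A] B))
  let K : q.asIdeal.primeCompl → Set (PrimeSpectrum (B ⊗[A] B)) := fun f =>
    (PrimeSpectrum.basicOpen (iL f * iR f) : Set (PrimeSpectrum (B ⊗[A] B))) ∩ Δᶜ
  have hΔ : IsClosed Δᶜ := by
    have : Δᶜ = ⋃ t ∈ T, (PrimeSpectrum.basicOpen t : Set (PrimeSpectrum (B ⊗[A] B))) := by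
      simp only [Δ, ← hT, PrimeSpectrum.zeroLocus_span]
      ext x
      simp [Set.subset_def]
    rw [this]
    exact isClosed_biUnion_finset fun t _ => (PrimeSpectrum.isCompact_basicOpen t).isClosed
  have hK : ∀ f, IsClosed (K f) := fun f =>
    (PrimeSpectrum.isCompact_basicOpen _).isClosed.inter hΔ
  have hempty : (univ : Set (PrimeSpectrum (B ⊗[A] B))) ∩ ⋂ f, K f = ∅ := by
    rw [univ_inter]
    refine eq_empty_of_forall_notMem fun Q hQ => ?_
    have hle : ∀ i : B →ₐ[A] B ⊗[A] B, (∀ f : q.asIdeal.primeCompl, i f ∉ Q.asIdeal) →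
        q.asIdeal = Q.asIdeal.comap i.toRingHom := fun i hi => by
      refine (congrArg PrimeSpectrum.asIdeal (show PrimeSpectrum.comap i.toRingHom Q = q from
        Specializes.eq ((PrimeSpectrum.le_iff_specializes _ q).1 fun x hx => ?_))).symm
      by_contra hxq
      exact hi ⟨x, hxq⟩ hx
    have hL := hle iL fun f h => (mem_iInter.1 hQ f).1 (Ideal.mul_mem_right _ _ h)
    have hR := hle iR fun f h => (mem_iInter.1 hQ f).1 (Ideal.mul_mem_left _ _ h)
    have hf0 := (mem_iInter.1 hQ ⟨1, q.asIdeal.primeCompl.one_mem⟩).2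
    refine hf0 ?_
    let p : PrimeSpectrum A := PrimeSpectrum.comap (algebraMap A B) q
    have := hres p
    have heq := algHom_residueField_eq p.asIdeal q.asIdeal rfl
      (Ideal.ResidueField.mapₐ q.asIdeal Q.asIdeal iL hL)
      (Ideal.ResidueField.mapₐ q.asIdeal Q.asIdeal iR hR)
    show (KaehlerDifferential.ideal A B : Set (B ⊗[A] B)) ⊆ Q.asIdeal
    rw [← KaehlerDifferential.span_range_eq_ideal, SetLike.coe_subset_coe, Ideal.span_le]
    rintro _ ⟨b, rfl⟩
    rw [SetLike.mem_coe, ← Ideal.algebraMap_residueField_eq_zero, map_sub, sub_eq_zero]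
    have h := congr($heq (algebraMap B q.asIdeal.ResidueField b))
    simp only [Ideal.ResidueField.mapₐ_apply, Ideal.ResidueField.map_algebraMap] at h
    exact h.symm
  obtain ⟨t, ht⟩ := isCompact_univ.elim_finite_subfamily_closed K hK hempty
  refine ⟨∏ f ∈ t, (f : B), fun h => ?_, fun q₁ h₁ q₂ h₂ h12 => ?_⟩
  · obtain ⟨f, -, hf⟩ := (Ideal.IsPrime.prod_mem_iff).1 h
    exact f.2 hf
  · let p : PrimeSpectrum A := PrimeSpectrum.comap (algebraMap A B) q₁
    let Ω := AlgebraicClosure p.asIdeal.ResidueField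
    let φ : ∀ q' : PrimeSpectrum B, PrimeSpectrum.comap (algebraMap A B) q' = p →
        ∃ j : B →ₐ[A] Ω, RingHom.ker j = q'.asIdeal := fun q' hq' => by
      have hpq : p.asIdeal = q'.asIdeal.comap (algebraMap A B) :=
        (congrArg PrimeSpectrum.asIdeal hq').symm
      let : Algebra p.asIdeal.ResidueField q'.asIdeal.ResidueField :=
        (Ideal.ResidueField.map p.asIdeal q'.asIdeal (algebraMap A B) hpq).toAlgebra
      have : IsScalarTower A p.asIdeal.ResidueField q'.asIdeal.ResidueField := .of_algebraMap_eq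
        fun a => (IsScalarTower.algebraMap_apply A B q'.asIdeal.ResidueField a).trans
          (Ideal.ResidueField.map_algebraMap p.asIdeal q'.asIdeal (algebraMap A B) hpq a).symm
      have : Algebra.QuasiFinite p.asIdeal.ResidueField q'.asIdeal.ResidueField :=
        Algebra.QuasiFinite.of_restrictScalars A _ _
      have : Module.Finite p.asIdeal.ResidueField q'.asIdeal.ResidueField := .of_quasiFinite
      let j : q'.asIdeal.ResidueField →ₐ[p.asIdeal.ResidueField] Ω := IsAlgClosed.lift
      refine ⟨(j.restrictScalars A).comp (IsScalarTower.toAlgHom A B q'.asIdeal.ResidueField), ?_⟩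
      ext b
      simp [RingHom.mem_ker, map_eq_zero_iff j (RingHom.injective j.toRingHom)]
    obtain ⟨j₁, hj₁⟩ := φ q₁ rfl
    obtain ⟨j₂, hj₂⟩ := φ q₂ h12.symm
    let ψ : B ⊗[A] B →ₐ[A] Ω := Algebra.TensorProduct.lift j₁ j₂ fun _ _ => Commute.all _ _
    let Q : PrimeSpectrum (B ⊗[A] B) := ⟨RingHom.ker ψ, RingHom.ker_isPrime _⟩
    have hψL : ∀ b, ψ (iL b) = j₁ b := fun b => by simp [ψ, iL]
    have hψR : ∀ b, ψ (iR b) = j₂ b := fun b => by simp [ψ, iR]
    have hQ : Q ∈ Δ := by
      by_contra hQΔ
      have hQn : Q ∉ univ ∩ ⋂ f ∈ t, K f := by rw [ht]; exact notMem_empty _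
      refine hQn ⟨mem_univ _, mem_iInter₂.2 fun f hf => ⟨?_, hQΔ⟩⟩
      show iL f * iR f ∉ RingHom.ker ψ
      rw [RingHom.mem_ker, map_mul, hψL, hψR, mul_eq_zero, ← RingHom.mem_ker, ← RingHom.mem_ker,
        hj₁, hj₂]
      rintro (h | h)
      · exact h₁ (Ideal.IsPrime.prod_mem_iff.2 ⟨f, hf, h⟩)
      · exact h₂ (Ideal.IsPrime.prod_mem_iff.2 ⟨f, hf, h⟩)
    have hj : ∀ b, j₁ b = j₂ b := fun b => by
      have h : ψ (iR b - iL b) = 0 := hQ (by
        rw [← KaehlerDifferential.span_range_eq_ideal]
        exact Ideal.subset_span ⟨b, rfl⟩)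
      rw [map_sub, sub_eq_zero, hψL, hψR] at h
      exact h.symm
    exact PrimeSpectrum.ext (Ideal.ext fun b => by rw [← hj₁, ← hj₂, RingHom.mem_ker, RingHom.mem_ker, hj])

theorem extremallyDisconnected [T2Space (PrimeSpectrum A)] [ExtremallyDisconnected (PrimeSpectrum A)]
    [Algebra.QuasiFinite A B] [Algebra.FinitePresentation A B]
    (hres : ∀ p : PrimeSpectrum A, IsSepClosed p.asIdeal.ResidueField) :
    ExtremallyDisconnected (PrimeSpectrum B) :=
  have : T2Space (PrimeSpectrum B) := t2Space_of_quasiFinite (A := A)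
  extremallyDisconnected_of_local (PrimeSpectrum.continuous_comap _) isOpenMap_comap fun q =>
    let ⟨f, hf, hi⟩ := exists_injOn hres q
    ⟨_, PrimeSpectrum.isOpen_basicOpen, hf, hi⟩

end Groth.Agent.ProEtW.QuasiFiniteED
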