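import Groth.Agent.ProEtW.IdentifiesLocal

/-!
Ind-Zariski algebras identify local rings.
-/

universe u

namespace Groth.Agent.ProEtW.IndZariski

open Groth.Agent.IndAlg

/-- The predicate "local isomorphism". -/
def LI (A : Type u) [CommRing A] : ∀ (E : Type u) [CommRing E] [Algebra A E], Prop :=
  fun E _ _ => Algebra.IsLocalIso A E

theorem fac {A B : Type u} [CommRing A] [CommRing B] [Algebra A B]
    (h : EtPBC.IsIndZariski A B) : Fac (LI A) B := by
  obtain ⟨J, i1, i2, D, c, hc, hQ, he⟩ := h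
  exact fac_of_isInd ⟨J, i1, i2, D, c, hc, fun j => hQ j, he⟩

variable {A : Type u} [CommRing A] {B : Type u} [CommRing B] [Algebra A B]

theorem identifies_of_rep
    (hrep : ∀ (q : PrimeSpectrum B) (b : B), ∃ a s : A, ∃ t : B, algebraMap A B s ∉ q.asIdeal ∧
      t ∉ q.asIdeal ∧ t * (algebraMap A B s * b - algebraMap A B a) = 0)
    (hann : ∀ (q : PrimeSpectrum B) (a : A) (t : B), t ∉ q.asIdeal → t * algebraMap A B a = 0 →
      ∃ u : A, algebraMap A B u ∉ q.asIdeal ∧ u * a = 0) :
    EtPBC.IdentifiesLocalRings A B := by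
  intro q
  constructor
  · rw [injective_iff_map_eq_zero]
    intro y hy
    obtain ⟨a, c, rfl⟩ := IsLocalization.exists_mk'_eq (q.asIdeal.comap (algebraMap A B)).primeCompl y
    rw [Localization.localRingHom_mk', IsLocalization.mk'_eq_zero_iff] at hy
    obtain ⟨t, ht⟩ := hy
    obtain ⟨u, hu, hua⟩ := hann q a t t.2 ht
    rw [IsLocalization.mk'_eq_zero_iff]
    exact ⟨⟨u, hu⟩, hua⟩
  · intro y
    obtain ⟨φ, ⟨ψ, hψ⟩, rfl⟩ := IsLocalization.exists_mk'_eq q.asIdeal.primeCompl y
    obtain ⟨a, s, t, hs, ht, h0⟩ := hrep q φ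
    obtain ⟨a', s', t', hs', ht', h0'⟩ := hrep q ψ
    have ha' : algebraMap A B a' ∉ q.asIdeal := fun hh => q.2.mul_notMem hs' hψ
      ((Submodule.sub_mem_iff_left _ hh).1 ((q.2.mem_or_mem (h0' ▸ zero_mem _)).resolve_left ht'))
    refine ⟨IsLocalization.mk' _ (a * s') (⟨s * a', (q.2.comap (algebraMap A B)).mul_notMem hs ha'⟩ :
      (q.asIdeal.comap (algebraMap A B)).primeCompl), ?_⟩
    rw [Localization.localRingHom_mk', IsLocalization.mk'_eq_iff_eq]
    refine (IsLocalization.eq_iff_exists q.asIdeal.primeCompl _).2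
      ⟨⟨t * t', q.2.mul_notMem ht ht'⟩, ?_⟩
    simp only [map_mul]
    linear_combination (algebraMap A B s * φ * t) * h0' - (algebraMap A B s' * ψ * t') * h0

theorem rep_localIso {E : Type u} [CommRing E] [Algebra A E] [Algebra.IsLocalIso A E]
    (q : PrimeSpectrum E) :
    (∀ b : E, ∃ a s : A, ∃ t : E, algebraMap A E s ∉ q.asIdeal ∧ t ∉ q.asIdeal ∧
      t * (algebraMap A E s * b - algebraMap A E a) = 0) ∧
    ∀ (a : A) (t : E), t ∉ q.asIdeal → t * algebraMap A E a = 0 →
      ∃ u : A, algebraMap A E u ∉ q.asIdeal ∧ u * a = 0 := by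
  obtain ⟨g, hg, hsoi⟩ :=
    Algebra.IsLocalIso.exists_notMem_isStandardOpenImmersion (R := A) q.asIdeal
  obtain ⟨r, hr⟩ := Algebra.IsStandardOpenImmersion.exists_away A (Localization.Away g)
  let L := Localization.Away g
  let qL : Ideal L := q.asIdeal.map (algebraMap E L)
  have hd : Disjoint (Submonoid.powers g : Set E) (q.asIdeal : Set E) := by
    rw [Set.disjoint_left]
    rintro _ ⟨n, rfl⟩ hx
    exact hg (q.2.mem_of_pow_mem n hx)
  have : qL.IsPrime := IsLocalization.isPrime_of_isPrime_disjoint (Submonoid.powers g) _ _ q.2 hd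
  have hqL : qL.comap (algebraMap E L) = q.asIdeal :=
    IsLocalization.under_map_of_isPrime_disjoint (Submonoid.powers g) _ q.2 hd
  have hrq : ∀ n, algebraMap A E (r ^ n) ∉ q.asIdeal := fun n hh => by
    have h1 : algebraMap A L (r ^ n) ∈ qL := by
      rw [IsScalarTower.algebraMap_apply A E L]
      exact Ideal.mem_map_of_mem _ hh
    rw [map_pow] at h1
    exact Ideal.IsPrime.ne_top (I := qL) inferInstance (Ideal.eq_top_of_isUnit_mem _ h1
      ((IsLocalization.Away.algebraMap_isUnit (S := L) r).pow n))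
  have hsurj : ∀ b : E, ∃ (a : A) (n : ℕ) (m : ℕ),
      g ^ m * (algebraMap A E (r ^ n) * b - algebraMap A E a) = 0 := by
    intro b
    obtain ⟨n, a, ha⟩ := IsLocalization.Away.surj (S := L) r (algebraMap E L b)
    have h1 : algebraMap E L (algebraMap A E (r ^ n) * b - algebraMap A E a) = 0 := by
      rw [map_sub, map_mul, ← IsScalarTower.algebraMap_apply, ← IsScalarTower.algebraMap_apply,
        map_pow, mul_comm, ha, sub_self]
    obtain ⟨⟨_, m, rfl⟩, hm⟩ := (IsLocalization.map_eq_zero_iff (Submonoid.powers g) L _).1 h1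
    exact ⟨a, n, m, hm⟩
  refine ⟨fun b => ?_, fun a t ht h0 => ?_⟩
  · obtain ⟨a, n, m, h⟩ := hsurj b
    exact ⟨a, r ^ n, g ^ m, hrq n, fun hh => hg (q.2.mem_of_pow_mem m hh), h⟩
  · obtain ⟨a', n, m, h⟩ := hsurj t
    have hgm : g ^ m ∉ q.asIdeal := fun hh => hg (q.2.mem_of_pow_mem m hh)
    have ha' : algebraMap A E a' ∉ q.asIdeal := fun hh => q.2.mul_notMem (hrq n) ht
      ((Submodule.sub_mem_iff_left _ hh).1 ((q.2.mem_or_mem (h ▸ zero_mem _)).resolve_left hgm))
    have h1 : algebraMap A L (a' * a) = 0 := by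
      rw [IsScalarTower.algebraMap_apply A E L, IsLocalization.map_eq_zero_iff (Submonoid.powers g)]
      refine ⟨⟨g ^ m, m, rfl⟩, ?_⟩
      rw [map_mul]
      linear_combination (g ^ m * algebraMap A E (r ^ n)) * h0 - (algebraMap A E a) * h
    obtain ⟨⟨_, k, rfl⟩, hk⟩ := (IsLocalization.map_eq_zero_iff (Submonoid.powers r) L _).1 h1
    refine ⟨r ^ k * a', ?_, by rw [mul_assoc]; exact hk⟩
    rw [map_mul]
    exact q.2.mul_notMem (hrq k) ha'

theorem identifiesLocalRings (h : EtPBC.IsIndZariski A B) : EtPBC.IdentifiesLocalRings A B := by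
  refine identifies_of_rep (fun q b => ?_) fun q a t ht h0 => ?_
  · obtain ⟨E, _, _, hE, v, w, hvw⟩ :=
      fac h (MvPolynomial Unit A) inferInstance (MvPolynomial.aeval fun _ => b)
    have : Algebra.IsLocalIso A E := hE
    obtain ⟨a, s, t, hs, ht, h0⟩ :=
      (rep_localIso (A := A) (PrimeSpectrum.comap w.toRingHom q)).1 (v (MvPolynomial.X ()))
    have hb : w (v (MvPolynomial.X ())) = b :=
      congr($hvw (MvPolynomial.X ())).trans (MvPolynomial.aeval_X _ _)
    refine ⟨a, s, w t, fun hh => hs ?_, ht, ?_⟩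
    · show w (algebraMap A E s) ∈ q.asIdeal
      rw [w.commutes]; exact hh
    · have h1 := congrArg w h0
      simp only [map_mul, map_sub, map_zero, AlgHom.commutes, hb] at h1
      exact h1
  · let R := MvPolynomial Unit A
    let I : Ideal R := Ideal.span {algebraMap A R a * MvPolynomial.X ()}
    have : Algebra.FinitePresentation A (R ⧸ I) :=
      Algebra.FinitePresentation.quotient ⟨{algebraMap A R a * MvPolynomial.X ()}, by simp [I]⟩
    let g : R ⧸ I →ₐ[A] B := Ideal.Quotient.liftₐ I (MvPolynomial.aeval fun _ => t) fun x hx => by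
      obtain ⟨y, rfl⟩ := Ideal.mem_span_singleton'.1 hx
      rw [map_mul, map_mul, AlgHom.commutes, MvPolynomial.aeval_X, mul_comm (algebraMap A B a), h0,
        mul_zero]
    obtain ⟨E, _, _, hE, v, w, hvw⟩ := fac h (R ⧸ I) inferInstance g
    have : Algebra.IsLocalIso A E := hE
    have he : w (v (Ideal.Quotient.mk I (MvPolynomial.X ()))) = t :=
      congr($hvw (Ideal.Quotient.mk I (MvPolynomial.X ()))).trans (MvPolynomial.aeval_X _ _)
    have h1 : v (Ideal.Quotient.mk I (MvPolynomial.X ())) * algebraMap A E a = 0 := by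
      rw [← v.commutes, ← map_mul]
      show v (Ideal.Quotient.mk I (MvPolynomial.X ()) * Ideal.Quotient.mk I (algebraMap A R a)) = 0
      rw [← map_mul, Ideal.Quotient.eq_zero_iff_mem.2, map_zero]
      rw [mul_comm]
      exact Ideal.mem_span_singleton_self _
    obtain ⟨u, hu, hua⟩ := (rep_localIso (PrimeSpectrum.comap w.toRingHom q)).2 a _
      (fun hh => ht (he ▸ hh : t ∈ q.asIdeal)) h1
    refine ⟨u, fun hh => hu ?_, hua⟩
    show w (algebraMap A E u) ∈ q.asIdeal
    rw [w.commutes]; exact hh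

end Groth.Agent.ProEtW.IndZariski
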