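import Mathlib.Topology.Spectral.Basic
import Mathlib.Topology.Spectral.ConstructibleTopology
import Mathlib.Topology.Separation.Profinite
import Mathlib.Topology.Connected.TotallyDisconnected

/-!
Basic facts on spectral spaces: connected components, profiniteness, closed points.
-/

namespace Groth.Agent.ProEtW.Spectral

open Set Topology TopologicalSpace

variable {X : Type*} [TopologicalSpace X]

theorem quasiSeparatedSpace_of_isClosedEmbedding {Y : Type*} [TopologicalSpace Y]
    [QuasiSeparatedSpace X] [PrespectralSpace X] {f : Y → X} (hf : IsClosedEmbedding f) :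
    QuasiSeparatedSpace Y := by
  have key : ∀ U : Set Y, IsOpen U → IsCompact U →
      ∃ W : Set X, IsCompact W ∧ IsOpen W ∧ f ⁻¹' W = U := by
    intro U hU hUc
    obtain ⟨O, hO, rfl⟩ := hf.isInducing.isOpen_iff.1 hU
    obtain ⟨W, hWc, hWo, hle, hWO⟩ := PrespectralSpace.exists_isCompact_and_isOpen_between
      (hUc.image hf.continuous) hO (image_preimage_subset f O)
    exact ⟨W, hWc, hWo, (preimage_mono hWO).antisymm (image_subset_iff.1 hle)⟩
  constructor
  intro U V hU hUc hV hVc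
  obtain ⟨W, hWc, hWo, rfl⟩ := key U hU hUc
  obtain ⟨W', hW'c, hW'o, rfl⟩ := key V hV hVc
  rw [← preimage_inter]
  exact hf.isCompact_preimage (hWc.inter_of_isOpen hW'c hWo hW'o)

theorem spectralSpace_of_isClosedEmbedding {Y : Type*} [TopologicalSpace Y] [SpectralSpace X]
    {f : Y → X} (hf : IsClosedEmbedding f) : SpectralSpace Y where
  __ := hf.isEmbedding.t0Space
  __ := hf.compactSpace
  __ := hf.quasiSober
  __ := quasiSeparatedSpace_of_isClosedEmbedding hf
  __ := PrespectralSpace.of_isClosedEmbedding f hf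

theorem spectralSpace_subtype [SpectralSpace X] {Z : Set X} (hZ : IsClosed Z) : SpectralSpace Z :=
  spectralSpace_of_isClosedEmbedding hZ.isClosedEmbedding_subtypeVal

/-- A family of compact opens and closed subsets with the finite intersection property has
nonempty intersection. -/
theorem nonempty_iInter_of_fip [CompactSpace X] [QuasiSober X] [PrespectralSpace X]
    [QuasiSeparatedSpace X] {ι : Type*} (K : ι → Set X)
    (hK : ∀ i, (IsOpen (K i) ∧ IsCompact (K i)) ∨ IsClosed (K i))
    (h : ∀ s : Finset ι, (⋂ i ∈ s, K i).Nonempty) : (⋂ i, K i).Nonempty := by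
  let φ : WithConstructibleTopology X → X := WithTopology.ofTopology
  have hco : ∀ U : Set X, IsOpen U → IsCompact U →
      IsOpen (φ ⁻¹' U) ∧ IsClosed (φ ⁻¹' U) := by
    intro U hU hUc
    refine ⟨?_, ?_⟩
    · rw [WithConstructibleTopology.isOpen_iff]
      exact hUc.isOpen_constructibleTopology_of_isOpen hU
    · rw [← isOpen_compl_iff, WithConstructibleTopology.isOpen_iff]
      exact IsCompact.isOpen_constructibleTopology_of_isClosed (s := Uᶜ) (by rwa [compl_compl])
        hU.isClosed_compl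
  have hφ : Continuous φ := by
    rw [PrespectralSpace.isTopologicalBasis.continuous_iff]
    exact fun U hU => (hco U hU.1 hU.2).1
  have hcl : ∀ i, IsClosed (φ ⁻¹' K i) := by
    intro i
    rcases hK i with ⟨ho, hc⟩ | hc
    · exact (hco _ ho hc).2
    · exact hc.preimage hφ
  have hsurj : Function.Surjective φ := fun x => ⟨WithTopology.toTopology _ x, rfl⟩
  have := isCompact_univ.inter_iInter_nonempty (fun i => φ ⁻¹' K i) hcl fun s => by
    obtain ⟨x, hx⟩ := h s
    obtain ⟨y, rfl⟩ := hsurj x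
    refine ⟨y, mem_univ _, ?_⟩
    simpa only [mem_iInter, mem_preimage] using hx
  obtain ⟨y, -, hy⟩ := this
  exact ⟨φ y, mem_iInter.2 fun i => mem_iInter.1 hy i⟩

/-- If the sets of generalizations of two sets are disjoint, they have disjoint
compact open neighbourhoods. -/
theorem exists_disjoint_compact_opens [CompactSpace X] [QuasiSober X] [PrespectralSpace X]
    [QuasiSeparatedSpace X] {C D : Set X} (hC : IsCompact C) (hD : IsCompact D)
    (h : ∀ c ∈ C, ∀ d ∈ D, ∀ z, z ⤳ c → z ⤳ d → False) :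
    ∃ U V : Set X, IsOpen U ∧ IsCompact U ∧ IsOpen V ∧ IsCompact V ∧
      C ⊆ U ∧ D ⊆ V ∧ Disjoint U V := by
  by_contra hne
  push Not at hne
  let ι := {p : Set X × Set X // (IsOpen p.1 ∧ IsCompact p.1 ∧ C ⊆ p.1) ∧
    (IsOpen p.2 ∧ IsCompact p.2 ∧ D ⊆ p.2)}
  have fip : ∀ s : Finset ι, (⋂ i ∈ s, (i.1.1 ∩ i.1.2)).Nonempty := by
    intro s
    classical
    have huniv : IsCompact (univ : Set X) := isCompact_univ
    let U := ⋂ i ∈ s, i.1.1
    let V := ⋂ i ∈ s, i.1.2
    have hUo : IsOpen U := isOpen_biInter_finset fun i _ => i.2.1.1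
    have hVo : IsOpen V := isOpen_biInter_finset fun i _ => i.2.2.1
    obtain ⟨U', hU'c, hU'o, hCU', hU'U⟩ :=
      PrespectralSpace.exists_isCompact_and_isOpen_between hC hUo
        (subset_iInter₂ fun i _ => i.2.1.2.2)
    obtain ⟨V', hV'c, hV'o, hDV', hV'V⟩ :=
      PrespectralSpace.exists_isCompact_and_isOpen_between hD hVo
        (subset_iInter₂ fun i _ => i.2.2.2.2)
    obtain ⟨x, hx1, hx2⟩ :=
      Set.not_disjoint_iff.1 (hne U' V' hU'o hU'c hV'o hV'c hCU' hDV')
    refine ⟨x, mem_iInter₂.2 fun i hi => ⟨?_, ?_⟩⟩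
    · exact mem_iInter₂.1 (hU'U hx1) i hi
    · exact mem_iInter₂.1 (hV'V hx2) i hi
  obtain ⟨z, hz⟩ := nonempty_iInter_of_fip (fun i : ι => i.1.1 ∩ i.1.2)
    (fun i => Or.inl ⟨i.2.1.1.inter i.2.2.1, i.2.1.2.1.inter_of_isOpen i.2.2.2.1 i.2.1.1 i.2.2.1⟩)
    fip
  rw [mem_iInter] at hz
  have aux : ∀ K : Set X, IsCompact K → (∀ U, IsOpen U → IsCompact U → K ⊆ U → z ∈ U) →
      ∃ c ∈ K, z ⤳ c := by
    intro K hK hU
    by_contra hh
    push Not at hh
    have : K ⊆ (closure {z})ᶜ := fun c hc hcl => hh c hc (specializes_iff_mem_closure.2 hcl)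
    obtain ⟨W, hWc, hWo, hKW, hWz⟩ := PrespectralSpace.exists_isCompact_and_isOpen_between hK
      isClosed_closure.isOpen_compl this
    exact hWz (hU W hWo hWc hKW) (subset_closure rfl)
  obtain ⟨c, hc, hzc⟩ := aux C hC fun U hU hUc hCU =>
    (hz ⟨(U, univ), ⟨hU, hUc, hCU⟩, isOpen_univ, isCompact_univ, subset_univ _⟩).1
  obtain ⟨d, hd, hzd⟩ := aux D hD fun V hV hVc hDV =>
    (hz ⟨(univ, V), ⟨isOpen_univ, isCompact_univ, subset_univ _⟩, hV, hVc, hDV⟩).2
  exact h c hc d hd z hzc hzd

theorem t2Space_of_t1Space [SpectralSpace X] [T1Space X] : T2Space X := by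
  refine ⟨fun x y hxy => ?_⟩
  obtain ⟨U, V, hU, -, hV, -, hxU, hyV, hd⟩ := exists_disjoint_compact_opens (C := {x}) (D := {y})
    isCompact_singleton isCompact_singleton (by
      rintro c rfl d rfl z hzc hzd
      exact hxy (hzc.eq.symm.trans hzd.eq))
  exact ⟨U, V, hU, hV, hxU rfl, hyV rfl, hd⟩

theorem totallyDisconnectedSpace_of_t1Space [SpectralSpace X] [T1Space X] :
    TotallyDisconnectedSpace X := by
  have : T2Space X := t2Space_of_t1Space
  infer_instance

/-- The connected component is the intersection of the clopen sets containing the point. -/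
theorem connectedComponent_eq_iInter_isClopen [CompactSpace X] [PrespectralSpace X]
    [QuasiSeparatedSpace X] (x : X) :
    connectedComponent x = ⋂ s : {s : Set X // IsClopen s ∧ x ∈ s}, (s : Set X) := by
  refine connectedComponent_subset_iInter_isClopen.antisymm ?_
  refine IsPreconnected.subset_connectedComponent ?_ (mem_iInter.2 fun s => s.2.2)
  let ι := {s : Set X // IsClopen s ∧ x ∈ s}
  have hS : IsClosed (⋂ s : ι, (s : Set X)) := isClosed_iInter fun s => s.2.1.1
  rw [isPreconnected_iff_subset_of_fully_disjoint_closed hS]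
  intro a b ha hb hab hd
  obtain ⟨U, hUc, hUo, haU, hUb⟩ := PrespectralSpace.exists_isCompact_and_isOpen_between
    ha.isCompact hb.isOpen_compl (fun p hp hp' => Set.disjoint_left.1 hd hp hp')
  obtain ⟨V, hVc, hVo, hbV, hVa⟩ := PrespectralSpace.exists_isCompact_and_isOpen_between
    hb.isCompact ha.isOpen_compl (fun p hp hp' => Set.disjoint_left.1 hd hp' hp)
  have hK : IsCompact ((U ∩ V) ∪ (U ∪ V)ᶜ) :=
    (hUc.inter_of_isOpen hVc hUo hVo).union (hUo.union hVo).isClosed_compl.isCompact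
  have H1 := hK.inter_iInter_nonempty (fun s : ι => (s : Set X)) fun s => s.2.1.1
  have hempty : ¬ ((U ∩ V ∪ (U ∪ V)ᶜ) ∩ ⋂ s : ι, (s : Set X)).Nonempty := by
    rintro ⟨p, hp, hpS⟩
    rcases hab hpS with hpa | hpb
    · rcases hp with hp | hp
      · exact hVa hp.2 hpa
      · exact hp (Or.inl (haU hpa))
    · rcases hp with hp | hp
      · exact hUb hp.1 hpb
      · exact hp (Or.inr (hbV hpb))
  obtain ⟨si, H2⟩ := not_forall.1 (mt H1 hempty)
  let W := ⋂ s ∈ si, (s : ι).1
  have hW : IsClopen W := isClopen_biInter_finset fun s _ => s.2.1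
  have hxW : x ∈ W := mem_iInter₂.2 fun s _ => s.2.2
  have hWsub : ∀ p ∈ W, (p ∈ U ∨ p ∈ V) ∧ ¬ (p ∈ U ∧ p ∈ V) := by
    intro p hp
    constructor
    · by_contra h
      exact H2 ⟨p, Or.inr h, hp⟩
    · intro h
      exact H2 ⟨p, Or.inl h, hp⟩
  have hclopen : ∀ A B : Set X, IsOpen A → IsOpen B →
      (∀ p ∈ W, (p ∈ A ∨ p ∈ B) ∧ ¬ (p ∈ A ∧ p ∈ B)) → IsClopen (W ∩ A) := by
    intro A B hA hB h
    refine ⟨?_, hW.2.inter hA⟩
    have : W ∩ A = W ∩ Bᶜ := by
      ext p
      exact ⟨fun hp => ⟨hp.1, fun hpB => (h p hp.1).2 ⟨hp.2, hpB⟩⟩,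
        fun hp => ⟨hp.1, (h p hp.1).1.resolve_right hp.2⟩⟩
    rw [this]
    exact hW.1.inter hB.isClosed_compl
  rcases (hWsub x hxW).1 with hx | hx
  · refine Or.inl fun p hp => (hab hp).resolve_right fun hpb => hUb ?_ hpb
    exact (mem_iInter.1 hp ⟨W ∩ U, hclopen U V hUo hVo hWsub, hxW, hx⟩).2
  · refine Or.inr fun p hp => (hab hp).resolve_left fun hpa => hVa ?_ hpa
    exact (mem_iInter.1 hp ⟨W ∩ V, hclopen V U hVo hUo
      (fun q hq => ⟨(hWsub q hq).1.symm, fun h => (hWsub q hq).2 h.symm⟩), hxW, hx⟩).2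

theorem connectedComponents_mk_ne_iff [CompactSpace X] [PrespectralSpace X]
    [QuasiSeparatedSpace X] {x y : X} :
    ConnectedComponents.mk x ≠ ConnectedComponents.mk y ↔
      ∃ W : Set X, IsClopen W ∧ x ∈ W ∧ y ∉ W := by
  constructor
  · intro h
    have hy : y ∉ connectedComponent x := fun hy =>
      h (ConnectedComponents.coe_eq_coe.2 (connectedComponent_eq hy))
    rw [connectedComponent_eq_iInter_isClopen, mem_iInter, not_forall] at hy
    obtain ⟨⟨W, hW, hxW⟩, hyW⟩ := hy
    exact ⟨W, hW, hxW, hyW⟩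
  · rintro ⟨W, hW, hxW, hyW⟩ h
    exact hyW (hW.connectedComponent_subset hxW
      ((ConnectedComponents.coe_eq_coe'.1 h.symm)))

theorem isClopen_image_mk {W : Set X} (hW : IsClopen W) :
    IsClopen (ConnectedComponents.mk '' W) := by
  rw [← ConnectedComponents.isQuotientMap_coe.isClopen_preimage,
    connectedComponents_preimage_image, hW.biUnion_connectedComponent_eq]
  exact hW

theorem mk_mem_image_mk_iff {W : Set X} (hW : IsClopen W) {x : X} :
    ConnectedComponents.mk x ∈ ConnectedComponents.mk '' W ↔ x ∈ W := by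
  refine ⟨fun ⟨w, hw, h⟩ => ?_, fun h => mem_image_of_mem _ h⟩
  exact hW.connectedComponent_subset hw (ConnectedComponents.coe_eq_coe'.1 h.symm)

theorem t2Space_connectedComponents [CompactSpace X] [PrespectralSpace X] [QuasiSeparatedSpace X] :
    T2Space (ConnectedComponents X) := by
  refine ⟨ConnectedComponents.surjective_coe.forall₂.2 fun a b ne => ?_⟩
  obtain ⟨W, hW, haW, hbW⟩ := connectedComponents_mk_ne_iff.1 ne
  exact ⟨_, _, (isClopen_image_mk hW).2, (isClopen_image_mk hW).compl.2, mem_image_of_mem _ haW,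
    fun h => hbW ((mk_mem_image_mk_iff hW).1 h), disjoint_compl_right⟩

theorem exists_closedPoint_specializes [CompactSpace X] [T0Space X] (x : X) :
    ∃ z : X, IsClosed ({z} : Set X) ∧ x ⤳ z := by
  obtain ⟨z, hz, hzc⟩ := IsClosed.exists_closed_singleton (isClosed_closure (s := {x}))
    ⟨x, subset_closure rfl⟩
  exact ⟨z, hzc, specializes_iff_mem_closure.2 hz⟩

theorem surjective_closedPoints_mk [CompactSpace X] [T0Space X] :
    Function.Surjective
      (fun x : {x : X // IsClosed ({x} : Set X)} => ConnectedComponents.mk x.1) := by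
  intro c
  obtain ⟨x, rfl⟩ := ConnectedComponents.surjective_coe c
  obtain ⟨z, hz, hxz⟩ := exists_closedPoint_specializes x
  refine ⟨⟨z, hz⟩, ConnectedComponents.coe_eq_coe'.2 ?_⟩
  exact isClosed_connectedComponent.stableUnderSpecialization hxz mem_connectedComponent

/-- If the closed points form a closed set and each point has a unique closed specialization then
closed points in a subset closed among closed points are separated by clopens. -/
theorem exists_isClopen_inter_closedPoints [CompactSpace X] [QuasiSober X] [PrespectralSpace X]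
    [QuasiSeparatedSpace X]
    (h0 : IsClosed {x : X | IsClosed ({x} : Set X)})
    (huniq : ∀ x : X, ∃! z : X, IsClosed ({z} : Set X) ∧ x ⤳ z)
    {C D : Set X} (hC : IsClosed C) (hD : IsClosed D)
    (hCD : C ∪ D = {x : X | IsClosed ({x} : Set X)}) (hd : Disjoint C D) :
    ∃ W : Set X, IsClopen W ∧ C ⊆ W ∧ Disjoint D W := by
  have hC0 : ∀ c ∈ C, IsClosed ({c} : Set X) := fun c hc =>
    (Set.ext_iff.1 hCD c).1 (Or.inl hc)
  have hD0 : ∀ c ∈ D, IsClosed ({c} : Set X) := fun c hc =>
    (Set.ext_iff.1 hCD c).1 (Or.inr hc)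
  obtain ⟨U, V, hU, -, hV, -, hCU, hDV, hUV⟩ := exists_disjoint_compact_opens hC.isCompact
    hD.isCompact (fun c hc d hdD z hzc hzd => Set.disjoint_left.1 hd hc
      ((huniq z).unique ⟨hD0 d hdD, hzd⟩ ⟨hC0 c hc, hzc⟩ ▸ hdD))
  have hcov : ∀ x, x ∈ U ∨ x ∈ V := by
    intro x
    obtain ⟨z, ⟨hz, hxz⟩, -⟩ := huniq x
    rcases (Set.ext_iff.1 hCD z).2 hz with h | h
    · exact Or.inl (hxz.mem_open hU (hCU h))
    · exact Or.inr (hxz.mem_open hV (hDV h))
  have hUeq : U = Vᶜ := by
    ext x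
    exact ⟨fun hx hxV => Set.disjoint_left.1 hUV hx hxV, (hcov x).resolve_right⟩
  exact ⟨U, ⟨hUeq ▸ hV.isClosed_compl, hU⟩, hCU,
    Set.disjoint_left.2 fun x hx hxU => Set.disjoint_left.1 hUV hxU (hDV hx)⟩

end Groth.Agent.ProEtW.Spectral
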