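import Groth.Agent.ProEtW.WUniversal

/-!
Maps identifying local rings between rings with w-local spectrum.
-/

universe u

namespace Groth.Agent.ProEtW.IdentifiesLocal

open Set Topology TopologicalSpace
open Groth.Agent.ProEtW

variable {A : Type u} [CommRing A] {B : Type u} [CommRing B] [Algebra A B]

/-- Elements are fractions from `A` near a point where the local rings agree. -/
theorem exists_rep_at (q : PrimeSpectrum B) (h : Function.Bijective
      (Localization.localRingHom (q.asIdeal.comap (algebraMap A B)) q.asIdeal (algebraMap A B) rfl))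
    (b : B) :
    ∃ a s : A, ∃ t : B, algebraMap A B s ∉ q.asIdeal ∧ t ∉ q.asIdeal ∧
      t * (algebraMap A B s * b - algebraMap A B a) = 0 := by
  obtain ⟨y, hy⟩ := h.2 (algebraMap B (Localization.AtPrime q.asIdeal) b)
  obtain ⟨a, s, rfl⟩ := IsLocalization.exists_mk'_eq (q.asIdeal.comap (algebraMap A B)).primeCompl y
  rw [Localization.localRingHom_mk', IsLocalization.mk'_eq_iff_eq_mul, ← map_mul] at hy
  obtain ⟨t, ht⟩ := (IsLocalization.eq_iff_exists q.asIdeal.primeCompl _).1 hy
  refine ⟨a, s, t, s.2, t.2, ?_⟩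
  rw [mul_sub, ht]
  ring

/-- Elements of `B` are locally fractions from `A`. -/
theorem exists_rep (h : EtPBC.IdentifiesLocalRings A B) (q : PrimeSpectrum B) (b : B) :
    ∃ a s : A, ∃ t : B, algebraMap A B s ∉ q.asIdeal ∧ t ∉ q.asIdeal ∧
      t * (algebraMap A B s * b - algebraMap A B a) = 0 :=
  exists_rep_at q (h q) b

theorem exists_ann (h : EtPBC.IdentifiesLocalRings A B) (q : PrimeSpectrum B) {a : A} {t : B}
    (ht : t ∉ q.asIdeal) (h0 : t * algebraMap A B a = 0) :
    ∃ u : A, algebraMap A B u ∉ q.asIdeal ∧ u * a = 0 := by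
  have h1 : algebraMap A (Localization.AtPrime (q.asIdeal.comap (algebraMap A B))) a = 0 := by
    refine (h q).1 ?_
    rw [Localization.localRingHom_to_map, map_zero]
    exact (IsLocalization.map_eq_zero_iff q.asIdeal.primeCompl _ _).2 ⟨⟨t, ht⟩, h0⟩
  obtain ⟨u, hu⟩ := (IsLocalization.map_eq_zero_iff
    (q.asIdeal.comap (algebraMap A B)).primeCompl _ _).1 h1
  exact ⟨u, u.2, hu⟩

/-- Primes below a given prime are determined by their contraction. -/
theorem eq_of_comap_eq (h : EtPBC.IdentifiesLocalRings A B) {q q' m : PrimeSpectrum B}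
    (hq : q ≤ m) (hq' : q' ≤ m)
    (he : PrimeSpectrum.comap (algebraMap A B) q = PrimeSpectrum.comap (algebraMap A B) q') :
    q = q' := by
  have key : ∀ (p : PrimeSpectrum B), p ≤ m → ∀ b a s, ∀ t : B, algebraMap A B s ∉ m.asIdeal →
      t ∉ m.asIdeal → t * (algebraMap A B s * b - algebraMap A B a) = 0 →
      (b ∈ p.asIdeal ↔ a ∈ (PrimeSpectrum.comap (algebraMap A B) p).asIdeal) := by
    intro p hp b a s t hs ht h0
    have h1 : algebraMap A B s * b - algebraMap A B a ∈ p.asIdeal :=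
      (p.2.mem_or_mem (h0 ▸ zero_mem _)).resolve_left fun hh => ht (hp hh)
    refine ⟨fun hb => (Submodule.sub_mem_iff_right _ (Ideal.mul_mem_left _ _ hb)).1 h1, fun ha => ?_⟩
    have ha' : algebraMap A B a ∈ p.asIdeal := ha
    exact (p.2.mem_or_mem ((Submodule.sub_mem_iff_left _ ha').1 h1)).resolve_left fun hh => hs (hp hh)
  refine PrimeSpectrum.ext (Ideal.ext fun b => ?_)
  obtain ⟨a, s, t, hs, ht, h0⟩ := exists_rep h m b
  rw [key q hq b a s t hs ht h0, key q' hq' b a s t hs ht h0, he]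

/-- The closed points. -/
abbrev C0 (B : Type u) [CommRing B] : Set (PrimeSpectrum B) :=
  {x | IsClosed ({x} : Set (PrimeSpectrum B))}

variable (hB : ProEtW.IsWLocal (PrimeSpectrum B))

include hB in
theorem isProfinite_C0 : CompactSpace (C0 B) ∧ T2Space (C0 B) ∧ TotallyDisconnectedSpace (C0 B) := by
  have : SpectralSpace (C0 B) := Spectral.spectralSpace_subtype hB.2.1
  have : T1Space (C0 B) := ⟨fun x => by
    have : ({x} : Set (C0 B)) = Subtype.val ⁻¹' {x.1} := by ext; simp [Subtype.ext_iff]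
    rw [this]
    exact x.2.preimage continuous_subtype_val⟩
  exact ⟨inferInstance, Spectral.t2Space_of_t1Space, Spectral.totallyDisconnectedSpace_of_t1Space⟩

include hB in
/-- Clopens of the closed points are cut out by idempotents. -/
theorem exists_idempotent {W : Set (C0 B)} (hW : IsClopen W) :
    ∃ ε : B, IsIdempotentElem ε ∧ ∀ x : C0 B, x ∈ W ↔ ε ∉ x.1.asIdeal := by
  obtain ⟨-, h0, huniq⟩ := hB
  obtain ⟨W', hW', hCW, hDW⟩ := Spectral.exists_isClopen_inter_closedPoints h0 huniq
    (C := Subtype.val '' W) (D := Subtype.val '' Wᶜ)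
    (h0.isClosedEmbedding_subtypeVal.isClosedMap _ hW.1)
    (h0.isClosedEmbedding_subtypeVal.isClosedMap _ hW.compl.1)
    (by rw [← image_union, union_compl_self, image_univ, Subtype.range_coe])
    (disjoint_image_of_injective Subtype.val_injective disjoint_compl_right)
  obtain ⟨ε, hε, rfl⟩ := PrimeSpectrum.isClopen_iff.1 hW'
  exact ⟨ε, hε, fun x => ⟨fun hx => hCW ⟨x, hx, rfl⟩,
    fun hx => by_contra fun hn => Set.disjoint_left.1 hDW ⟨x, hn, rfl⟩ hx⟩⟩

include hB in
/-- A family of local fractions on the closed points comes from a global element. -/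
theorem exists_global (φ : ∀ x : C0 B, Localization.AtPrime x.1.asIdeal)
    (hφ : ∀ x, ∃ (W : Set (C0 B)) (a s : B), IsClopen W ∧ x ∈ W ∧ ∀ y ∈ W, s ∉ y.1.asIdeal ∧
      φ y * algebraMap B _ s = algebraMap B _ a) :
    ∃ b : B, ∀ x, algebraMap B _ b = φ x := by
  let J : Ideal B :=
    { carrier := {c | ∃ b : B, ∀ x, algebraMap B _ c * φ x = algebraMap B _ b}
      zero_mem' := ⟨0, fun x => by simp⟩
      add_mem' := by
        rintro c c' ⟨b, hb⟩ ⟨b', hb'⟩
        exact ⟨b + b', fun x => by rw [map_add, map_add, add_mul, hb x, hb' x]⟩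
      smul_mem' := by
        rintro d c ⟨b, hb⟩
        exact ⟨d * b, fun x => by rw [smul_eq_mul, map_mul, map_mul, mul_assoc, hb x]⟩ }
  suffices hJ : J = ⊤ by
    obtain ⟨b, hb⟩ : (1 : B) ∈ J := hJ ▸ Submodule.mem_top
    exact ⟨b, fun x => by simpa using (hb x).symm⟩
  by_contra hne
  obtain ⟨m, hm, hJm⟩ := Ideal.exists_le_maximal J hne
  let x : C0 B := ⟨⟨m, hm.isPrime⟩, (PrimeSpectrum.isClosed_singleton_iff_isMaximal _).2 hm⟩
  obtain ⟨W, a, s, hW, hxW, hd⟩ := hφ x
  obtain ⟨ε, hε, hεW⟩ := exists_idempotent hB hW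
  refine (hm.isPrime.mem_or_mem (hJm (show s * ε ∈ J from ⟨a * ε, fun y => ?_⟩))).elim
    (hd x hxW).1 ((hεW x).1 hxW)
  rw [map_mul, map_mul]
  by_cases hy : y ∈ W
  · rw [← (hd y hy).2]; ring
  · have h1 : 1 - ε ∉ y.1.asIdeal := fun hh => y.1.2.one_notMem (by
      simpa using add_mem hh (not_not.1 fun hn => hy ((hεW y).2 hn)))
    have h0 : algebraMap B (Localization.AtPrime y.1.asIdeal) ε = 0 :=
      (IsLocalization.map_eq_zero_iff y.1.asIdeal.primeCompl _ _).2
        ⟨⟨1 - ε, h1⟩, by rw [sub_mul, one_mul, hε.eq, sub_self]⟩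
    rw [h0, mul_zero, mul_zero, zero_mul]

/-- The map from closed points to the constructible topology downstairs. -/
def toZ (A : Type u) [CommRing A] {B : Type u} [CommRing B] [Algebra A B] (x : C0 B) :
    WithConstructibleTopology (PrimeSpectrum A) :=
  WithTopology.toTopology _ (PrimeSpectrum.comap (algebraMap A B) x.1)

include hB in
theorem continuous_toZ : Continuous (toZ A (B := B)) := by
  obtain ⟨_, _, _⟩ := isProfinite_C0 hB
  refine WLocalization.continuous_of_isClopen fun U hU hUc => ?_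
  have hc : IsCompact ((Subtype.val : C0 B → PrimeSpectrum B) ⁻¹'
      (PrimeSpectrum.comap (algebraMap A B) ⁻¹' U)) :=
    hB.2.1.isClosedEmbedding_subtypeVal.isCompact_preimage
      (hUc.preimage_of_isOpen (WUniversal.isSpectralMap_comap _) hU)
  exact ⟨hc.isClosed, (hU.preimage (PrimeSpectrum.continuous_comap _)).preimage continuous_subtype_val⟩

include hB in
/-- A w-local algebra identifying local rings is the ring of local fractions on its closed points. -/
theorem nonempty_algEquiv (h : EtPBC.IdentifiesLocalRings A B) :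
    Nonempty (LocFrac.Ring (WLocalization.sub (toZ A (B := B))) ≃ₐ[A] B) := by
  obtain ⟨_, _, _⟩ := isProfinite_C0 hB
  let S := WLocalization.sub (toZ A (B := B))
  let e (x : C0 B) : Localization (S x) →ₐ[A] Localization.AtPrime x.1.asIdeal :=
    { IsLocalization.lift (M := S x) (S := Localization (S x))
        (g := algebraMap A (Localization.AtPrime x.1.asIdeal)) (fun s => by
          rw [IsScalarTower.algebraMap_apply A B]
          exact (IsLocalization.AtPrime.isUnit_to_map_iff _ x.1.asIdeal _).2 s.2) with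
      commutes' := fun a => IsLocalization.lift_eq _ a }
  have einj : ∀ x, Function.Injective (e x) := by
    intro x
    rw [injective_iff_map_eq_zero]
    intro z hz
    obtain ⟨a, s, rfl⟩ := IsLocalization.exists_mk'_eq (S x) z
    have h1 := congrArg (e x) (IsLocalization.mk'_spec (Localization (S x)) a s)
    rw [map_mul, hz, zero_mul, AlgHom.commutes, IsScalarTower.algebraMap_apply A B] at h1
    obtain ⟨t, ht⟩ := (IsLocalization.map_eq_zero_iff x.1.asIdeal.primeCompl _ _).1 h1.symm
    obtain ⟨u, hu, hua⟩ := exists_ann h x.1 t.2 ht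
    rw [IsLocalization.mk'_eq_zero_iff]
    exact ⟨⟨u, hu⟩, hua⟩
  let G : LocFrac.Ring S →ₐ[A] ∀ x : C0 B, Localization.AtPrime x.1.asIdeal :=
    AlgHom.pi fun x => (e x).comp (LocFrac.ev S x)
  let F : B →ₐ[A] ∀ x : C0 B, Localization.AtPrime x.1.asIdeal :=
    AlgHom.pi fun x => IsScalarTower.toAlgHom A B (Localization.AtPrime x.1.asIdeal)
  have Finj : Function.Injective F := fun b b' hbb' =>
    MaximalSpectrum.toPiLocalization_injective B (funext fun m =>
      congrFun hbb' ⟨⟨m.asIdeal, m.isMaximal.isPrime⟩,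
        (PrimeSpectrum.isClosed_singleton_iff_isMaximal _).2 m.isMaximal⟩)
  have Ginj : Function.Injective G := fun φ ψ hφψ =>
    LocFrac.ext S fun x => einj x (congrFun hφψ x)
  have hrange : G.range = F.range := by
    refine le_antisymm ?_ ?_
    · rintro _ ⟨φ, rfl⟩
      obtain ⟨b, hb⟩ := exists_global hB (G φ) fun x => by
        obtain ⟨W, a, s, hW, hxW, hd⟩ := φ.2 x
        refine ⟨W, algebraMap A B a, algebraMap A B s, hW, hxW, fun y hy => ⟨(hd y hy).1, ?_⟩⟩
        have h1 := congrArg (e y) (hd y hy).2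
        rw [map_mul, AlgHom.commutes, AlgHom.commutes, IsScalarTower.algebraMap_apply A B,
          IsScalarTower.algebraMap_apply A B (Localization.AtPrime y.1.asIdeal)] at h1
        exact h1
      exact ⟨b, funext hb⟩
    · rintro _ ⟨b, rfl⟩
      have hloc : ∀ x : C0 B, ∃ (a s : A) (W : Set (C0 B)), IsClopen W ∧ x ∈ W ∧ ∀ y ∈ W,
          s ∈ S y ∧ algebraMap A (Localization.AtPrime y.1.asIdeal) s * F b y =
            algebraMap A (Localization.AtPrime y.1.asIdeal) a := by
        intro x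
        obtain ⟨a, s, t, hs, ht, h0⟩ := exists_rep h x.1 b
        obtain ⟨W, hW, hxW, hWst⟩ := compact_exists_isClopen_in_isOpen
          ((PrimeSpectrum.basicOpen (algebraMap A B s * t)).isOpen.preimage continuous_subtype_val)
          (x := x) (x.1.2.mul_notMem hs ht)
        refine ⟨a, s, W, hW, hxW, fun y hy => ⟨fun hh => hWst hy (Ideal.mul_mem_right _ _ hh), ?_⟩⟩
        show _ * algebraMap B _ b = _
        rw [IsScalarTower.algebraMap_apply A B, IsScalarTower.algebraMap_apply A B
          (Localization.AtPrime y.1.asIdeal), ← map_mul]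
        exact (IsLocalization.eq_iff_exists y.1.asIdeal.primeCompl _).2
          ⟨⟨t, fun hh => hWst hy (Ideal.mul_mem_left _ _ hh)⟩, sub_eq_zero.1 (by rw [← mul_sub, h0])⟩
      choose a s W hW hxW hd using hloc
      refine ⟨⟨fun x => IsLocalization.mk' (Localization (S x)) (a x) ⟨s x, (hd x x (hxW x)).1⟩,
        fun x => ⟨W x, a x, s x, hW x, hxW x, fun y hy => ⟨(hd x y hy).1, ?_⟩⟩⟩, funext fun x => ?_⟩
      · refine einj y ?_
        have h1 : e y (IsLocalization.mk' (Localization (S y)) (a y) ⟨s y, (hd y y (hxW y)).1⟩) = F b y := by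
          refine ((IsLocalization.map_units (Localization (S y))
            (⟨s y, (hd y y (hxW y)).1⟩ : S y)).map (e y)).mul_left_inj.1 ?_
          rw [← map_mul, IsLocalization.mk'_spec, AlgHom.commutes, AlgHom.commutes, mul_comm]
          exact (hd y y (hxW y)).2.symm
        rw [map_mul, AlgHom.commutes, AlgHom.commutes, h1, mul_comm]
        exact (hd x y hy).2
      · refine ((IsLocalization.map_units (Localization (S x))
          (⟨s x, (hd x x (hxW x)).1⟩ : S x)).map (e x)).mul_left_inj.1 ?_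
        show e x _ * _ = _
        rw [← map_mul]
        refine (congrArg (e x) (IsLocalization.mk'_spec (Localization (S x)) (a x)
          (⟨s x, (hd x x (hxW x)).1⟩ : S x))).trans ?_
        rw [AlgHom.commutes, AlgHom.commutes, mul_comm]
        exact (hd x x (hxW x)).2.symm
  exact ⟨(AlgEquiv.ofInjective G Ginj).trans
    ((Subalgebra.equivOfEq _ _ hrange).trans (AlgEquiv.ofInjective F Finj).symm)⟩

include hB in
/-- Such algebras are ind-Zariski. -/
theorem isIndZariski (h : EtPBC.IdentifiesLocalRings A B) : EtPBC.IsIndZariski A B := by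
  obtain ⟨_, _, _⟩ := isProfinite_C0 hB
  obtain ⟨e⟩ := nonempty_algEquiv hB h
  obtain ⟨J, i1, i2, D, c, hc, hQ, he⟩ := Groth.Agent.IndAlg.isInd_of_fac
    (fun E _ _ (h : LocFrac.Q' A E) => have := h.1; inferInstance)
    (fun E E' _ _ _ _ e (h : LocFrac.Q' A E) =>
      ⟨have := h.1; Algebra.Etale.of_equiv e, have := h.2; Algebra.IsLocalIso.of_algEquiv e⟩)
    (Groth.Agent.IndAlg.fac_algEquiv e (LocFrac.fac (WLocalization.isOpen_sub (continuous_toZ hB))))
  exact ⟨J, i1, i2, D, c, hc, fun j => (hQ j).2, he⟩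

/-- Rings of local fractions identify local rings. -/
theorem identifies_locFrac {R : Type u} [CommRing R] {T : Type u} [TopologicalSpace T]
    [CompactSpace T] [T2Space T] [TotallyDisconnectedSpace T] {S : T → Submonoid R}
    (hS : ∀ s, IsOpen {t | s ∈ S t}) : EtPBC.IdentifiesLocalRings R (LocFrac.Ring S) := by
  intro Q
  let L := LocFrac.Ring S
  constructor
  · rw [injective_iff_map_eq_zero]
    intro y hy
    obtain ⟨a, c, rfl⟩ := IsLocalization.exists_mk'_eq (Q.asIdeal.comap (algebraMap R L)).primeCompl y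
    rw [Localization.localRingHom_mk', IsLocalization.mk'_eq_zero_iff] at hy
    obtain ⟨⟨ψ, hψ⟩, hψa⟩ := hy
    obtain ⟨W, a', s, -, htW, hd⟩ := ψ.2 (LocFrac.pt Q)
    obtain ⟨hs, hd'⟩ := hd _ htW
    have ha' : algebraMap R L a' ∉ Q.asIdeal := fun hh => hψ ((LocFrac.mem_iff hS Q hs hd').2 hh)
    have h1 := congrArg (LocFrac.ev S (LocFrac.pt Q)) hψa
    rw [map_mul, AlgHom.commutes, map_zero] at h1
    have h2 : algebraMap R (Localization (S (LocFrac.pt Q))) (a' * a) = 0 := by
      rw [map_mul, ← hd', mul_right_comm]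
      show LocFrac.ev S _ ψ * _ * _ = 0
      rw [h1, zero_mul]
    obtain ⟨⟨u, hu⟩, hu0⟩ := (IsLocalization.map_eq_zero_iff (S (LocFrac.pt Q)) _ _).1 h2
    rw [IsLocalization.mk'_eq_zero_iff]
    refine ⟨⟨u * a', (Q.2.comap _).mul_notMem (LocFrac.notMem_of_mem hS Q hu) ha'⟩, ?_⟩
    show u * a' * a = 0
    rw [mul_assoc]; exact hu0
  · intro y
    obtain ⟨φ, ⟨ψ, hψ⟩, rfl⟩ := IsLocalization.exists_mk'_eq Q.asIdeal.primeCompl y
    obtain ⟨W₁, a, s, hW₁, ht₁, hd₁⟩ := φ.2 (LocFrac.pt Q)
    obtain ⟨W₂, a', s', hW₂, ht₂, hd₂⟩ := ψ.2 (LocFrac.pt Q)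
    have ha' : algebraMap R L a' ∉ Q.asIdeal := fun hh =>
      hψ ((LocFrac.mem_iff hS Q (hd₂ _ ht₂).1 (hd₂ _ ht₂).2).2 hh)
    refine ⟨IsLocalization.mk' _ (a * s') (⟨s * a', (Q.2.comap (algebraMap R L)).mul_notMem
      (LocFrac.notMem_of_mem hS Q (hd₁ _ ht₁).1) ha'⟩ :
        (Q.asIdeal.comap (algebraMap R L)).primeCompl), ?_⟩
    rw [Localization.localRingHom_mk', IsLocalization.mk'_eq_iff_eq]
    refine (IsLocalization.eq_iff_exists Q.asIdeal.primeCompl _).2
      ⟨⟨LocFrac.idem (W₁ ∩ W₂) (hW₁.inter hW₂), (LocFrac.pt_spec Q _).2 ⟨ht₁, ht₂⟩⟩, ?_⟩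
    refine LocFrac.ext S fun x => ?_
    simp only [map_mul, AlgHom.commutes]
    by_cases hx : x ∈ W₁ ∩ W₂
    · rw [← (hd₁ x hx.1).2, ← (hd₂ x hx.2).2]
      show _ * (ψ.1 x * _) = _ * (_ * _ * φ.1 x)
      ring
    · rw [LocFrac.ev_idem_of_notMem _ hx, zero_mul, zero_mul]

end Groth.Agent.ProEtW.IdentifiesLocal
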