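import Groth.Agent.ProEtW.AlgResidue
import Groth.Agent.ProEtW.Contractible
import Groth.Agent.S0700
import Groth.Agent.S1974
import Groth.Agent.S7127
import Groth.Agent.WEtale.Local
import Groth.Agent.IndAlg.Etale

/-!
# Weakly étale maps become ind-étale after a faithfully flat ind-étale extension (BS 2.3.4)
-/

set_option autoImplicit false

universe u

namespace Groth.Agent.ProEtW.WEFactor

theorem algebraicResidueExtensions (A B : Type u) [CommRing A] [CommRing B] [Algebra A B]
    [Algebra.WeaklyEtale A B] : _root_.ProEtW.AlgebraicResidueExtensions A B := by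
  intro q _
  let p := q.comap (algebraMap A B)
  haveI : q.LiesOver p := ⟨rfl⟩
  letI := Localization.AtPrime.algebraOfLiesOver p q
  letI : Algebra (A ⧸ p) q.ResidueField :=
    ((algebraMap (B ⧸ q) q.ResidueField).comp (algebraMap (A ⧸ p) (B ⧸ q))).toAlgebra
  haveI : IsScalarTower (A ⧸ p) (B ⧸ q) q.ResidueField := .of_algebraMap_eq' rfl
  haveI : IsScalarTower (A ⧸ p) p.ResidueField q.ResidueField := .of_algebraMap_eq fun x => by
    obtain ⟨a, rfl⟩ := Ideal.Quotient.mk_surjective x
    show algebraMap (B ⧸ q) q.ResidueField (Ideal.Quotient.mk q (algebraMap A B a)) = _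
    exact ((IsScalarTower.algebraMap_apply B (B ⧸ q) q.ResidueField _).symm.trans
      (IsScalarTower.algebraMap_apply A B q.ResidueField a).symm).trans
      ((IsScalarTower.algebraMap_apply A p.ResidueField q.ResidueField a).trans
        (congrArg _ (IsScalarTower.algebraMap_apply A (A ⧸ p) p.ResidueField a)))
  have hs : Algebra.IsSeparable p.ResidueField q.ResidueField := Groth.Agent.S1974.result A B p q
  haveI : Algebra.IsAlgebraic (A ⧸ p) q.ResidueField :=
    (IsFractionRing.comap_isAlgebraic_iff (A := A ⧸ p) (K := p.ResidueField)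
      (C := q.ResidueField)).2 inferInstance
  exact Algebra.IsAlgebraic.of_injective
    (IsScalarTower.toAlgHom (A ⧸ p) (B ⧸ q) q.ResidueField)
    (IsFractionRing.injective (B ⧸ q) q.ResidueField)

/-- A weakly étale algebra is ind-étale after a faithfully flat ind-étale extension. -/
theorem exists_ff_indEtale (A B : Type u) [CommRing A] [CommRing B] [Algebra A B]
    [Algebra.WeaklyEtale A B] :
    ∃ (D : Type u) (_ : CommRing D) (_ : Algebra B D) (_ : Algebra A D) (_ : IsScalarTower A B D),
      Module.FaithfullyFlat B D ∧ Algebra.WeaklyEtale B D ∧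
        Groth.Agent.IndAlg.Fac (Groth.Agent.IndAlg.Etale.Et A) D := by
  obtain ⟨C, D, _, _, _, _, _, _, _, _, -, hAC, hBD, hBD', hC, hD, hCDw, hcl, -, -, hsh⟩ :=
    AlgResidue.exists_square (algebraicResidueExtensions A B)
  have hwC : Algebra.WeaklyEtale A C := Groth.Agent.IndAlg.Etale.weaklyEtale hAC
  have hwD : Algebra.WeaklyEtale B D := Groth.Agent.IndAlg.Etale.weaklyEtale hBD'
  have hwAD : Algebra.WeaklyEtale A D := Algebra.WeaklyEtale.trans A B D
  have hwCD : Algebra.WeaklyEtale C D := Groth.Agent.S7127.result A C D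
  have hid : EtPBC.IdentifiesLocalRings C D := Groth.Agent.WEtale.Local.identifiesLocalRings_of_below
    fun q => by
      obtain ⟨m, ⟨hm, hqm⟩, -⟩ := hD.2.2 q
      refine ⟨m, (PrimeSpectrum.le_iff_specializes q m).2 hqm,
        Contractible.bijective_over_closedPoint hsh m ?_⟩
      have h2 : m ∈ _root_.ProEtW.closedPoints (PrimeSpectrum D) := hm
      rw [hcl] at h2
      exact h2
  exact ⟨D, inferInstance, inferInstance, inferInstance, inferInstance, hBD, hwD,
    Groth.Agent.IndAlg.Etale.fac_trans hAC
      (Groth.Agent.WEtale.Local.fac_of_isIndZariski (Groth.Agent.S0700.result C D hid hC hD hCDw))⟩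

end Groth.Agent.ProEtW.WEFactor
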