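import Groth.Agent.ProEtW.WEFactor
import Groth.Agent.Hens.Pair
import Groth.Agent.Hens.PairHfp
import Groth.Agent.Hensel.Pair
import Groth.Agent.S0755
import Groth.Agent.S7127
import Mathlib.RingTheory.Ideal.Pure

/-!
# Henselian lifts of w-contractible weakly étale algebras over a quotient
-/

set_option autoImplicit false

universe u

open TensorProduct

namespace Groth.Agent.ProEtW.PairLift

open Groth.Agent.Hens

theorem fac_pairHenselization (A : Type u) [CommRing A] (I : Ideal A) :
    IndAlg.Fac (IndAlg.Etale.Et A) (PairHenselization A I) := by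
  classical
  intro Z _ _ hZ g
  obtain ⟨n, π, hπ, hker⟩ := Algebra.FinitePresentation.out (R := A) (A := Z)
  obtain ⟨S, _, _, _, θ, hθ⟩ := exists_pairStage_finset
    (Finset.univ.image fun k : Fin n => g (π (MvPolynomial.X k)))
  choose s hs using fun k : Fin n => hθ (g (π (MvPolynomial.X k)))
    (Finset.mem_image_of_mem (f := fun k : Fin n => g (π (MvPolynomial.X k))) (Finset.mem_univ k))
  let ψ : MvPolynomial (Fin n) A →ₐ[A] S := MvPolynomial.aeval s
  have hψ : θ.comp ψ = g.comp π := MvPolynomial.algHom_ext fun k => by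
    simp only [AlgHom.comp_apply, ψ, MvPolynomial.aeval_X]
    exact hs k
  obtain ⟨G, hG⟩ := hker
  have hG0 : ∀ x ∈ G, θ (ψ x) = 0 := fun x hx => by
    rw [← AlgHom.comp_apply, hψ, AlgHom.comp_apply,
      show π x = 0 from RingHom.mem_ker.1 (hG ▸ Ideal.subset_span hx), map_zero]
  choose! t ht htx using fun x hx => exists_mul_eq_zero_of_pair θ (hG0 x hx)
  let T := ∏ x ∈ G, t x
  have hT : IsUnit (pairPoint A I (θ T)) := by
    simp only [T, map_prod]
    exact IsUnit.prod_iff.2 ht
  have hTu : ∀ y : Submonoid.powers T, IsUnit (θ y) := fun y => by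
    obtain ⟨y, m, rfl⟩ := y
    rw [map_pow]
    exact (isUnit_of_isUnit_pairPoint A I hT).pow m
  let E := Localization.Away T
  haveI : Algebra.Etale S E := Algebra.Etale.of_isLocalizationAway T
  haveI : Algebra.Etale A E := Algebra.Etale.comp A S E
  let w : E →ₐ[A] PairHenselization A I := IsLocalization.liftAlgHom (M := Submonoid.powers T) (f := θ) hTu
  let ψ' : MvPolynomial (Fin n) A →ₐ[A] E := (IsScalarTower.toAlgHom A S E).comp ψ
  have hle : RingHom.ker π.toRingHom ≤ RingHom.ker ψ'.toRingHom := by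
    rw [← hG]
    refine Ideal.span_le.2 fun x hx => ?_
    refine (IsLocalization.map_eq_zero_iff (Submonoid.powers T) E (ψ x)).2 ⟨⟨T, Submonoid.mem_powers T⟩, ?_⟩
    show T * ψ x = 0
    obtain ⟨c, hc⟩ := Finset.dvd_prod_of_mem t hx
    rw [show T = t x * c from hc, mul_assoc, mul_comm c, ← mul_assoc, htx x hx, zero_mul]
  refine ⟨E, inferInstance, inferInstance, ‹_›, AlgHom.liftOfSurjective π hπ ψ' hle, w, ?_⟩
  refine (AlgHom.cancel_right hπ).1 (AlgHom.ext fun x => ?_)
  have h1 : AlgHom.liftOfSurjective π hπ ψ' hle (π x) = ψ' x :=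
    AlgHom.liftOfSurjective_apply π hπ ψ' hle x
  show w (AlgHom.liftOfSurjective π hπ ψ' hle (π x)) = g (π x)
  rw [h1]
  show w (algebraMap S E (ψ x)) = _
  rw [show w (algebraMap S E (ψ x)) = θ (ψ x) from IsLocalization.lift_eq _ _]
  exact congr($hψ x)

/-- Ring maps from a weakly étale algebra agreeing modulo an ideal in the radical are equal. -/
theorem algHom_eq {C B T : Type u} [CommRing C] [CommRing B] [CommRing T] [Algebra C B] [Algebra C T]
    [Algebra.WeaklyEtale C B] (J : Ideal T) (hJ : J ≤ Ideal.jacobson ⊥) (φ ψ : B →ₐ[C] T)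
    (h : ∀ b, φ b - ψ b ∈ J) : φ = ψ := by
  let m := Algebra.TensorProduct.lmul' C (S := B)
  let K := RingHom.ker m.toRingHom
  have hsurj : Function.Surjective m.toRingHom := fun b => ⟨b ⊗ₜ 1, by simp [m]⟩
  haveI : K.Pure := by
    let : Algebra (B ⊗[C] B) B := m.toRingHom.toAlgebra
    haveI : Module.Flat (B ⊗[C] B) B := Algebra.WeaklyEtale.flat_lmul' C B
    exact Module.Flat.of_linearEquiv
      (Ideal.quotientKerAlgEquivOfSurjective (f := Algebra.ofId (B ⊗[C] B) B) hsurj).toLinearEquiv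
  let μ : B ⊗[C] B →ₐ[C] T := Algebra.TensorProduct.lift φ ψ fun _ _ => Commute.all _ _
  have hμ : ∀ z, μ z - φ (m z) ∈ J := by
    intro z
    induction z using TensorProduct.induction_on with
    | zero => simp
    | tmul x y =>
      rw [show μ (x ⊗ₜ y) = φ x * ψ y from Algebra.TensorProduct.lift_tmul _ _ _ _ _,
        show m (x ⊗ₜ y) = x * y from Algebra.TensorProduct.lmul'_apply_tmul x y, map_mul, ← mul_sub]
      exact J.mul_mem_left _ (neg_sub (φ y) (ψ y) ▸ J.neg_mem (h y))
    | add x y hx hy =>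
      rw [map_add, map_add, map_add, add_sub_add_comm]
      exact J.add_mem hx hy
  refine AlgHom.ext fun b => ?_
  have hb : b ⊗ₜ[C] (1 : B) - (1 : B) ⊗ₜ b ∈ K := by simp [K, m]
  obtain ⟨y, hy, hxy⟩ := Ideal.exists_eq_mul_of_pure hb
  have hyJ : μ y ∈ J := by
    have := hμ y
    rwa [show m y = 0 from RingHom.mem_ker.1 hy, map_zero, sub_zero] at this
  have hu : IsUnit (1 - μ y) := by
    have := Ideal.mem_jacobson_bot.1 (hJ hyJ) (-1)
    rwa [mul_neg, mul_one, neg_add_eq_sub] at this
  have h0 : μ (b ⊗ₜ[C] (1 : B) - (1 : B) ⊗ₜ b) * (1 - μ y) = 0 := by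
    rw [mul_sub, mul_one, ← map_mul, ← hxy, sub_self]
  have := (hu.mul_left_eq_zero).1 h0
  simpa [μ, sub_eq_zero] using this

/-- Étale points modulo a henselian ideal lift. -/
theorem exists_lift_of_fac {C B : Type u} [CommRing C] [CommRing B] [Algebra C B]
    (hB : IndAlg.Fac (IndAlg.Etale.Et C) B) (J : Ideal C) [HenselianRing C J] (σ : B →ₐ[C] C ⧸ J) :
    ∃ η : B →ₐ[C] C, ∀ b, Ideal.Quotient.mk J (η b) = σ b := by
  classical
  have hjac : J ≤ Ideal.jacobson ⊥ := HenselianRing.jac
  have huniq : ∀ {E : Type u} [CommRing E] [Algebra C E] [Algebra.Etale C E] (a b : E →ₐ[C] C),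
      (∀ e, Ideal.Quotient.mk J (a e) = Ideal.Quotient.mk J (b e)) → a = b := fun a b h =>
    algHom_eq J hjac a b fun e => Ideal.Quotient.eq.1 (h e)
  -- values at elements, through stages
  have hstage : ∀ b : B, ∃ c : C, ∀ (E : Type u) [CommRing E] [Algebra C E] [Algebra.Etale C E]
      (w : E →ₐ[C] B) (e : E) (_ : w e = b) (η : E →ₐ[C] C),
      (∀ x, Ideal.Quotient.mk J (η x) = σ (w x)) → η e = c := by
    intro b
    obtain ⟨E₀, _, _, hE₀, v, w₀, hv⟩ := hB (MvPolynomial (Fin 1) C) inferInstance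
      (MvPolynomial.aeval fun _ => b)
    haveI : Algebra.Etale C E₀ := hE₀
    obtain ⟨η₀, hη₀⟩ := exists_algHom_lift_etale (J := J) (σ.comp w₀)
    refine ⟨η₀ (v (MvPolynomial.X 0)), fun E _ _ _ w e he η hη => ?_⟩
    let p : E₀ ⊗[C] E →ₐ[C] B := Algebra.TensorProduct.lift w₀ w fun _ _ => Commute.all _ _
    -- a common stage over both
    haveI : Algebra.Etale C E₀ := hE₀
    haveI : Algebra.Etale C (E₀ ⊗[C] E) := Algebra.Etale.comp C E₀ (E₀ ⊗[C] E)
    let d : E₀ ⊗[C] E := v (MvPolynomial.X 0) ⊗ₜ 1 - 1 ⊗ₜ e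
    have hd : p d = 0 := by
      simp only [d, p, map_sub, Algebra.TensorProduct.lift_tmul, map_one, mul_one, one_mul]
      rw [show w₀ (v (MvPolynomial.X 0)) = b from by simpa using congr($hv (MvPolynomial.X 0)), he, sub_self]
    obtain ⟨E₂, _, _, hE₂, v₂, w₂, hv₂⟩ := hB ((E₀ ⊗[C] E) ⧸ Ideal.span {d})
      (Algebra.FinitePresentation.quotient (Submodule.fg_span_singleton d))
      (Ideal.Quotient.liftₐ _ p fun x hx => by
        obtain ⟨c, rfl⟩ := Ideal.mem_span_singleton'.1 hx
        rw [map_mul, hd, mul_zero])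
    haveI : Algebra.Etale C E₂ := hE₂
    obtain ⟨η₂, hη₂⟩ := exists_algHom_lift_etale (J := J) (σ.comp w₂)
    let u₀ : E₀ →ₐ[C] E₂ := (v₂.comp (Ideal.Quotient.mkₐ C _)).comp Algebra.TensorProduct.includeLeft
    let u₁ : E →ₐ[C] E₂ := (v₂.comp (Ideal.Quotient.mkₐ C _)).comp Algebra.TensorProduct.includeRight
    have h2 : ∀ z, w₂ (v₂ (Ideal.Quotient.mkₐ C _ z)) = p z := fun z => congr($hv₂ (Ideal.Quotient.mkₐ C _ z))
    have e0 : η₂.comp u₀ = η₀ := huniq _ _ fun x => by
      rw [hη₀]
      refine (hη₂ _).trans (congrArg σ ((h2 _).trans ?_))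
      simp [p]
    have e1 : η₂.comp u₁ = η := huniq _ _ fun x => by
      rw [hη]
      refine (hη₂ _).trans (congrArg σ ((h2 _).trans ?_))
      simp [p]
    rw [← e0, ← e1]
    refine congrArg η₂ (congrArg v₂ ((Ideal.Quotient.mk_eq_mk_iff_sub_mem _ _).2 ?_))
    have : d ∈ Ideal.span {d} := Ideal.subset_span rfl
    simpa [d] using (Ideal.span {d}).neg_mem this
  choose val hval using hstage
  have hpair : ∀ x y : B, ∃ (E : Type u) (_ : CommRing E) (_ : Algebra C E) (_ : Algebra.Etale C E)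
      (w : E →ₐ[C] B) (η : E →ₐ[C] C) (e e' : E), (∀ z, Ideal.Quotient.mk J (η z) = σ (w z)) ∧
        w e = x ∧ w e' = y := by
    intro x y
    obtain ⟨E, _, _, hE, v, w, hv⟩ := hB (MvPolynomial (Fin 2) C) inferInstance
      (MvPolynomial.aeval ![x, y])
    haveI : Algebra.Etale C E := hE
    obtain ⟨η, hη⟩ := exists_algHom_lift_etale (J := J) (σ.comp w)
    refine ⟨E, inferInstance, inferInstance, hE, w, η, v (MvPolynomial.X 0), v (MvPolynomial.X 1), hη, ?_, ?_⟩
    · simpa using congr($hv (MvPolynomial.X 0))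
    · simpa using congr($hv (MvPolynomial.X 1))
  let η : B →ₐ[C] C :=
    { toFun := val
      map_one' := by
        obtain ⟨E, _, _, _, w, η, e, -, hη, -, -⟩ := hpair 1 1
        rw [← hval 1 E w 1 (map_one w) η hη, map_one]
      map_mul' := fun x y => by
        obtain ⟨E, _, _, _, w, η, e, e', hη, he, he'⟩ := hpair x y
        rw [← hval x E w e he η hη, ← hval y E w e' he' η hη,
          ← hval (x * y) E w (e * e') (by rw [map_mul, he, he']) η hη, map_mul]
      map_zero' := by
        obtain ⟨E, _, _, _, w, η, e, -, hη, -, -⟩ := hpair 0 0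
        rw [← hval 0 E w 0 (map_zero w) η hη, map_zero]
      map_add' := fun x y => by
        obtain ⟨E, _, _, _, w, η, e, e', hη, he, he'⟩ := hpair x y
        rw [← hval x E w e he η hη, ← hval y E w e' he' η hη,
          ← hval (x + y) E w (e + e') (by rw [map_add, he, he']) η hη, map_add]
      commutes' := fun c => by
        obtain ⟨E, _, _, _, w, η, e, -, hη, -, -⟩ := hpair 0 0
        rw [← hval _ E w (algebraMap C E c) (w.commutes c) η hη, AlgHom.commutes] }
  refine ⟨η, fun b => ?_⟩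
  obtain ⟨E, _, _, _, w, ξ, e, -, hξ, he, -⟩ := hpair b b
  show Ideal.Quotient.mk J (val b) = σ b
  rw [← hval b E w e he ξ hξ, hξ, he]

/-- Points of weakly étale algebras in a w-contractible quotient lift uniquely. -/
theorem exists_lift {C R B : Type u} [CommRing C] [CommRing R] [CommRing B] [Algebra C R]
    [Algebra C B] [Algebra.WeaklyEtale C B] (hR : EtPBC.IsWContractible R)
    (hπ : Function.Surjective (algebraMap C R)) [HenselianRing C (RingHom.ker (algebraMap C R))]
    (σ : B →ₐ[C] R) : ∃ η : B →ₐ[C] C, ∀ b, algebraMap C R (η b) = σ b := by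
  obtain ⟨D, _, _, _, _, hff, hwe, hfac⟩ := WEFactor.exists_ff_indEtale C B
  let : Algebra B R := σ.toRingHom.toAlgebra
  haveI : IsScalarTower C B R := .of_algebraMap_eq fun c => (σ.commutes c).symm
  obtain ⟨r⟩ := hR (R ⊗[B] D) inferInstance inferInstance
  let τ : D →ₐ[C] R := ((r.restrictScalars C).comp
    ((Algebra.TensorProduct.includeRight (R := B) (A := R) (B := D)).restrictScalars C))
  let e := Ideal.quotientKerAlgEquivOfSurjective (f := Algebra.ofId C R) hπ
  haveI : HenselianRing C (RingHom.ker (Algebra.ofId C R)) := ‹HenselianRing C _›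
  obtain ⟨η, hη⟩ := exists_lift_of_fac hfac (RingHom.ker (Algebra.ofId C R)) (e.symm.toAlgHom.comp τ)
  refine ⟨η.comp (IsScalarTower.toAlgHom C B D), fun b => ?_⟩
  have h1 := congrArg e (hη (algebraMap B D b))
  have h2 : ∀ c, e (Ideal.Quotient.mk _ c) = algebraMap C R c := fun c => rfl
  rw [h2] at h1
  refine h1.trans ((e.apply_symm_apply _).trans ?_)
  show r ((1 : R) ⊗ₜ[B] algebraMap B D b) = σ b
  rw [Algebra.algebraMap_eq_smul_one, tmul_smul, smul_tmul', Algebra.smul_def, mul_one]
  exact r.commutes _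

/-- A henselian lift of a w-contractible weakly étale algebra over a quotient. -/
theorem exists_henselian_lift {A B R : Type u} [CommRing A] [CommRing B] [CommRing R] (π : A →+* B)
    (hπ : Function.Surjective π) [Algebra B R] [Algebra.WeaklyEtale B R]
    (hR : EtPBC.IsWContractible R) :
    ∃ (C : Type u) (_ : CommRing C) (_ : Algebra A C) (q : C →+* R), Algebra.WeaklyEtale A C ∧
      Function.Surjective q ∧ RingHom.ker q = (RingHom.ker π).map (algebraMap A C) ∧
      (∀ a, q (algebraMap A C a) = algebraMap B R (π a)) ∧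
      HenselianRing C (RingHom.ker q) := by
  obtain ⟨D, _, _, _, _, hff, hwe, hfac⟩ := WEFactor.exists_ff_indEtale B R
  let e := RingHom.quotientKerEquivOfSurjective hπ
  let : Algebra (A ⧸ RingHom.ker π) B := e.toRingHom.toAlgebra
  let : Algebra (A ⧸ RingHom.ker π) D := ((algebraMap B D).comp e.toRingHom).toAlgebra
  haveI : IsScalarTower (A ⧸ RingHom.ker π) B D := .of_algebraMap_eq' rfl
  haveI : Algebra.Etale (A ⧸ RingHom.ker π) B :=
    Algebra.Etale.of_equiv (A := A ⧸ RingHom.ker π) (AlgEquiv.ofRingEquiv (f := e) fun _ => rfl)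
  have hD : EtPBC.IsIndEtale (A ⧸ RingHom.ker π) D := IndAlg.Etale.isInd_of_fac
    (IndAlg.Etale.fac_trans (IndAlg.fac_self ‹_›) hfac)
  obtain ⟨C₀, _, _, hC₀, ⟨eC⟩⟩ := Groth.Agent.S0755.result A (RingHom.ker π) D hD
  obtain ⟨r⟩ := hR D hff hwe
  let I₀ := (RingHom.ker π).map (algebraMap A C₀)
  let q₀ : C₀ →+* R := (r.toRingHom.comp eC.toRingEquiv.toRingHom).comp (Ideal.Quotient.mk I₀)
  have hq₀ : Function.Surjective q₀ :=
    (Function.Surjective.comp (g := r) (fun x => ⟨algebraMap R D x, r.commutes x⟩) eC.surjective).comp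
      Ideal.Quotient.mk_surjective
  have hqA : ∀ a, q₀ (algebraMap A C₀ a) = algebraMap B R (π a) := fun a => by
    show r (eC (algebraMap (A ⧸ RingHom.ker π) (C₀ ⧸ I₀) (Ideal.Quotient.mk _ a))) = _
    rw [eC.commutes]
    show r (algebraMap B D (e (Ideal.Quotient.mk _ a))) = _
    rw [IsScalarTower.algebraMap_apply B R D]
    exact r.commutes _
  let J := RingHom.ker q₀
  let H := PairHenselization C₀ J
  letI algAH : Algebra A H := ((algebraMap C₀ H).comp (algebraMap A C₀)).toAlgebra
  haveI : IsScalarTower A C₀ H := .of_algebraMap_eq' rfl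
  haveI : Algebra.WeaklyEtale A C₀ := IndAlg.Etale.weaklyEtale (IndAlg.fac_of_isInd hC₀)
  haveI : Algebra.WeaklyEtale C₀ H := IndAlg.Etale.weaklyEtale (fac_pairHenselization C₀ J)
  haveI : Algebra.WeaklyEtale A H := Algebra.WeaklyEtale.trans A C₀ H
  let eR := RingHom.quotientKerEquivOfSurjective hq₀
  let q : H →+* R := eR.toRingHom.comp (pairPoint C₀ J).toRingHom
  have hqC : ∀ c, q (algebraMap C₀ H c) = q₀ c := fun c => by
    show eR (pairPoint C₀ J (algebraMap C₀ H c)) = _
    rw [AlgHom.commutes]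
    rfl
  have hqs : Function.Surjective q := fun x => by
    obtain ⟨c, rfl⟩ := hq₀ x
    exact ⟨algebraMap C₀ H c, hqC c⟩
  have hkerq : RingHom.ker q = J.map (algebraMap C₀ H) := by
    rw [← ker_pairPoint (A := C₀) (I := J)]
    ext x
    simp only [RingHom.mem_ker, q, RingHom.comp_apply]
    exact map_eq_zero_iff eR.toRingHom eR.injective
  have hhens : HenselianRing H (RingHom.ker q) := hkerq.symm ▸ henselianRing_pairHenselization
  let K := (RingHom.ker π).map (algebraMap A H)
  have hKle : K ≤ RingHom.ker q := Ideal.map_le_iff_le_comap.2 fun a ha => by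
    show q (algebraMap C₀ H (algebraMap A C₀ a)) = 0
    rw [hqC, hqA, RingHom.mem_ker.1 ha, map_zero]
  refine ⟨H, inferInstance, algAH, q, inferInstance, hqs, le_antisymm ?_ hKle,
    fun a => (hqC _).trans (hqA a), hhens⟩
  -- the quotient is weakly étale, so its kernel is pure
  let Q := H ⧸ K
  let p : Q →+* R := Ideal.Quotient.lift K q fun x hx => hKle hx
  have hps : Function.Surjective p := fun x => let ⟨y, hy⟩ := hqs x; ⟨Ideal.Quotient.mk K y, hy⟩
  let φ : B →+* Q := RingHom.liftOfSurjective π hπ ⟨(Ideal.Quotient.mk K).comp (algebraMap A H),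
    fun a ha => Ideal.Quotient.eq_zero_iff_mem.2 (Ideal.mem_map_of_mem _ ha)⟩
  have hφ : ∀ a, φ (π a) = Ideal.Quotient.mk K (algebraMap A H a) := fun a =>
    RingHom.liftOfRightInverse_comp_apply π _ _ ⟨(Ideal.Quotient.mk K).comp (algebraMap A H), _⟩ a
  let : Algebra B Q := φ.toAlgebra
  let : Algebra A B := π.toAlgebra
  haveI : IsScalarTower A B Q := .of_algebraMap_eq fun a => (hφ a).symm
  haveI : Algebra.WeaklyEtale B Q := by
    let f : B ⊗[A] H →ₐ[B] Q := Algebra.TensorProduct.lift (Algebra.ofId B Q)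
      (Ideal.Quotient.mkₐ A K) fun _ _ => Commute.all _ _
    have hkill : ∀ x ∈ K, (1 : B) ⊗ₜ[A] x = 0 := by
      intro x hx
      induction hx using Submodule.span_induction with
      | mem y hy =>
        obtain ⟨a, ha, rfl⟩ := hy
        rw [Algebra.algebraMap_eq_smul_one, tmul_smul, smul_tmul', Algebra.smul_def, mul_one,
          show algebraMap A B a = 0 from RingHom.mem_ker.1 ha, zero_tmul]
      | zero => exact tmul_zero _ _
      | add y z _ _ hy hz => rw [tmul_add, hy, hz, add_zero]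
      | smul h y _ hy =>
        rw [smul_eq_mul, show (1 : B) ⊗ₜ[A] (h * y) = ((1 : B) ⊗ₜ h) * (1 ⊗ₜ y) from by
          rw [Algebra.TensorProduct.tmul_mul_tmul, mul_one], hy, mul_zero]
    let g : Q →+* B ⊗[A] H := Ideal.Quotient.lift K
      (Algebra.TensorProduct.includeRight (R := A) (A := B) (B := H)).toRingHom hkill
    have hfg : ∀ z, g (f z) = z := by
      intro z
      induction z using TensorProduct.induction_on with
      | zero => rw [map_zero, map_zero]
      | tmul b h =>
        obtain ⟨a, rfl⟩ := hπ b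
        rw [show f (π a ⊗ₜ h) = φ (π a) * Ideal.Quotient.mk K h from Algebra.TensorProduct.lift_tmul _ _ _ _ _,
          hφ, ← map_mul]
        show (1 : B) ⊗ₜ[A] (algebraMap A H a * h) = _
        rw [← Algebra.smul_def, tmul_smul, smul_tmul', Algebra.smul_def, mul_one]
        rfl
      | add x y hx hy => rw [map_add, map_add, hx, hy]
    have hbij : Function.Bijective f := ⟨fun x y h => by rw [← hfg x, ← hfg y, h], fun x => by
      obtain ⟨h, rfl⟩ := Ideal.Quotient.mk_surjective x
      exact ⟨1 ⊗ₜ h, (Algebra.TensorProduct.lift_tmul _ _ _ _ _).trans (by rw [map_one, one_mul]; rfl)⟩⟩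
    exact IndAlg.Etale.weaklyEtale (A := B) (IndAlg.fac_algEquiv (AlgEquiv.ofBijective f hbij)
      (IndAlg.Etale.fac_baseChange (IndAlg.Etale.fac_trans (IndAlg.fac_of_isInd hC₀)
        (fac_pairHenselization C₀ J))))
  let : Algebra Q R := p.toAlgebra
  haveI : IsScalarTower B Q R := .of_algebraMap_eq fun b => by
    obtain ⟨a, rfl⟩ := hπ b
    show algebraMap B R (π a) = p (φ (π a))
    rw [hφ]
    exact ((hqC _).trans (hqA a)).symm
  haveI : Algebra.WeaklyEtale Q R := Groth.Agent.S7127.result B Q R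
  haveI : (RingHom.ker (Algebra.ofId Q R)).Pure :=
    Module.Flat.of_linearEquiv (Ideal.quotientKerAlgEquivOfSurjective (f := Algebra.ofId Q R) hps).toLinearEquiv
  intro x hx
  obtain ⟨y, hy, hxy⟩ := Ideal.exists_eq_mul_of_pure
    (I := RingHom.ker (Algebra.ofId Q R)) (x := Ideal.Quotient.mk K x) hx
  obtain ⟨y, rfl⟩ := Ideal.Quotient.mk_surjective y
  have hu : IsUnit (1 - y) := by
    have := Ideal.mem_jacobson_bot.1 (hhens.jac (show y ∈ RingHom.ker q from hy)) (-1)
    rwa [mul_neg, mul_one, neg_add_eq_sub] at this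
  rw [← map_mul, Ideal.Quotient.eq] at hxy
  obtain ⟨v, hv⟩ := hu.exists_right_inv
  have h1 : x = (x - x * y) * v := by linear_combination -x * hv
  rw [h1]
  exact Ideal.mul_mem_right _ _ hxy

end Groth.Agent.ProEtW.PairLift
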