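import Groth.Agent.ProEtW.Contractible
import Mathlib.RingTheory.TensorProduct.Basic
import Mathlib.FieldTheory.IsAlgClosed.AlgebraicClosure

/-!
Maps inducing algebraic residue field extensions; squares of w-local covers.
-/

universe u

open scoped TensorProduct

namespace Groth.Agent.ProEtW.AlgResidue

open Set Topology
open Groth.Agent.ProEtW

variable {A B : Type u} [CommRing A] [CommRing B] [Algebra A B]

/-- Points over closed points are closed. -/
theorem isClosed_singleton_of_comap (h : ProEtW.AlgebraicResidueExtensions A B) {q : PrimeSpectrum B}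
    (hq : IsClosed ({PrimeSpectrum.comap (algebraMap A B) q} : Set (PrimeSpectrum A))) :
    IsClosed ({q} : Set (PrimeSpectrum B)) := by
  rw [PrimeSpectrum.isClosed_singleton_iff_isMaximal] at hq ⊢
  let n : Ideal A := q.asIdeal.comap (algebraMap A B)
  have : n.IsMaximal := hq
  let : Field (A ⧸ n) := Ideal.Quotient.field n
  have : Algebra.IsAlgebraic (A ⧸ n) (B ⧸ q.asIdeal) := h q.asIdeal
  have : Algebra.IsIntegral (A ⧸ n) (B ⧸ q.asIdeal) := Algebra.IsAlgebraic.isIntegral
  exact Ideal.Quotient.maximal_of_isField _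
    (isField_of_isIntegral_of_isField' (Field.toIsField (A ⧸ n)))

/-- Weakly etale maps induce algebraic residue field extensions. -/
theorem of_weaklyEtale [Algebra.WeaklyEtale A B] : ProEtW.AlgebraicResidueExtensions A B := by
  intro q hq
  let p : Ideal A := q.comap (algebraMap A B)
  let K := p.ResidueField
  let k := AlgebraicClosure K
  let : Algebra K q.ResidueField := (Ideal.ResidueField.map p q (algebraMap A B) rfl).toAlgebra
  have : IsScalarTower A K q.ResidueField := .of_algebraMap_eq fun a => by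
    show _ = Ideal.ResidueField.map p q (algebraMap A B) rfl (algebraMap A K a)
    rw [Ideal.ResidueField.map_algebraMap, ← IsScalarTower.algebraMap_apply]
  let : CommRing (k ⊗[K] q.ResidueField) := inferInstance
  obtain ⟨M, hM⟩ := Ideal.exists_maximal (k ⊗[K] q.ResidueField)
  let : Field (k ⊗[K] q.ResidueField ⧸ M) := Ideal.Quotient.field M
  let i₁ : k →ₐ[K] k ⊗[K] q.ResidueField ⧸ M :=
    (Ideal.Quotient.mkₐ K M).comp Algebra.TensorProduct.includeLeft
  let i₂ : q.ResidueField →ₐ[K] k ⊗[K] q.ResidueField ⧸ M :=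
    (Ideal.Quotient.mkₐ K M).comp Algebra.TensorProduct.includeRight
  have key : ∀ b : B, IsAlgebraic K (algebraMap B q.ResidueField b) := by
    intro b
    let : CommRing (k ⊗[A] B) := inferInstance
    let φ : k ⊗[A] B →ₐ[A] k ⊗[K] q.ResidueField ⧸ M :=
      Algebra.TensorProduct.lift (i₁.restrictScalars A)
        ((i₂.restrictScalars A).comp (IsScalarTower.toAlgHom A B q.ResidueField))
        fun _ _ => Commute.all _ _
    have : (RingHom.ker φ.toRingHom).IsPrime := RingHom.ker_isPrime _
    have : (RingHom.ker φ.toRingHom).IsMaximal := by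
      refine Ideal.Quotient.maximal_of_isField _ ⟨⟨0, 1, zero_ne_one⟩, mul_comm, fun {x} hx => ?_⟩
      obtain ⟨z, hz⟩ := Groth.Agent.WEtale.AbsFlat.of_surjective
        Ideal.Quotient.mk_surjective (Groth.Agent.WEtale.absFlat k (k ⊗[A] B)) x
      exact ⟨z, mul_left_cancel₀ hx (by rw [mul_one]; linear_combination -hz)⟩
    obtain ⟨c, hc⟩ := (Groth.Agent.WEtale.bijective_quotient_maximal k (k ⊗[A] B)
      (RingHom.ker φ.toRingHom)).2 (Ideal.Quotient.mk _ (1 ⊗ₜ b))
    rw [← Ideal.Quotient.mk_algebraMap, Ideal.Quotient.eq, RingHom.mem_ker, map_sub, sub_eq_zero,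
      Algebra.TensorProduct.algebraMap_apply] at hc
    have h1 : i₁ c = i₂ (algebraMap B q.ResidueField b) := by
      simpa [φ] using hc
    have h2 : IsAlgebraic K (i₁ c) := (Algebra.IsAlgebraic.isAlgebraic c).algHom i₁
    rw [h1] at h2
    exact (isAlgebraic_algHom_iff i₂ i₂.toRingHom.injective).1 h2
  refine ⟨fun x => ?_⟩
  obtain ⟨b, rfl⟩ := Ideal.Quotient.mk_surjective x
  let : Algebra (A ⧸ p) q.ResidueField :=
    ((algebraMap K q.ResidueField).comp (algebraMap (A ⧸ p) K)).toAlgebra
  have : IsScalarTower (A ⧸ p) K q.ResidueField := .of_algebraMap_eq fun _ => rfl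
  have h1 : IsAlgebraic (A ⧸ p) (algebraMap B q.ResidueField b) :=
    (IsFractionRing.isAlgebraic_iff (A ⧸ p) K q.ResidueField).2 (key b)
  let j : (B ⧸ q) →ₐ[A ⧸ p] q.ResidueField :=
    { algebraMap (B ⧸ q) q.ResidueField with
      commutes' := fun a => by
        obtain ⟨a, rfl⟩ := Ideal.Quotient.mk_surjective a
        show algebraMap (B ⧸ q) q.ResidueField (Ideal.Quotient.mk q (algebraMap A B a)) =
          algebraMap K q.ResidueField (algebraMap A K a)
        rw [← IsScalarTower.algebraMap_apply A K q.ResidueField,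
          IsScalarTower.algebraMap_apply A B q.ResidueField,
          IsScalarTower.algebraMap_apply B (B ⧸ q) q.ResidueField]
        rfl }
  have hj : Function.Injective j := IsFractionRing.injective (B ⧸ q) q.ResidueField
  exact (isAlgebraic_algHom_iff j hj).1 h1

theorem exists_ringHom_tensor {A B C L : Type u} [CommRing A] [CommRing B] [CommRing C] [CommRing L]
    [Algebra A B] [Algebra A C] (uB : B →+* L) (uC : C →+* L)
    (h : uC.comp (algebraMap A C) = uB.comp (algebraMap A B)) :
    ∃ φ : B ⊗[A] C →+* L, (∀ b, φ (b ⊗ₜ 1) = uB b) ∧ ∀ c, φ (1 ⊗ₜ c) = uC c := by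
  let : Algebra A L := (uB.comp (algebraMap A B)).toAlgebra
  let φ : B ⊗[A] C →ₐ[A] L := Algebra.TensorProduct.lift
    ({ uB with commutes' := fun a => rfl } : B →ₐ[A] L)
    ({ uC with commutes' := fun a => congr($h a) } : C →ₐ[A] L) fun _ _ => Commute.all _ _
  exact ⟨φ.toRingHom, fun b => (Algebra.TensorProduct.lift_tmul _ _ _ _ _).trans
    (by rw [map_one, mul_one]; rfl), fun c => (Algebra.TensorProduct.lift_tmul _ _ _ _ _).trans
    (by rw [map_one, one_mul]; rfl)⟩

theorem algebraMap_tmul_one {A B C : Type u} [CommRing A] [CommRing B] [CommRing C] [Algebra A B]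
    [Algebra A C] (a : A) :
    algebraMap A B a ⊗ₜ[A] (1 : C) = (1 : B) ⊗ₜ[A] algebraMap A C a := by
  simp only [Algebra.algebraMap_eq_smul_one, TensorProduct.smul_tmul]

/-- The square of w-local covers. -/
theorem exists_square (h : ProEtW.AlgebraicResidueExtensions A B) :
    ∃ (C D : Type u) (_ : CommRing C) (_ : CommRing D) (_ : Algebra A C) (_ : Algebra B D)
      (_ : Algebra C D) (_ : Algebra A D) (_ : IsScalarTower A C D) (_ : IsScalarTower A B D),
      Module.FaithfullyFlat A C ∧ Groth.Agent.IndAlg.Fac (Groth.Agent.IndAlg.Etale.Et A) C ∧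
      Module.FaithfullyFlat B D ∧ Groth.Agent.IndAlg.Fac (Groth.Agent.IndAlg.Etale.Et B) D ∧
      ProEtW.IsWLocal (PrimeSpectrum C) ∧ ProEtW.IsWLocal (PrimeSpectrum D) ∧
      ProEtW.IsWLocalMap (PrimeSpectrum.comap (algebraMap C D)) ∧
      ProEtW.closedPoints (PrimeSpectrum D) =
        PrimeSpectrum.comap (algebraMap C D) ⁻¹' ProEtW.closedPoints (PrimeSpectrum C) ∧
      PrimeSpectrum.comap (algebraMap A C) '' ProEtW.closedPoints (PrimeSpectrum C) = Set.univ ∧
      PrimeSpectrum.comap (algebraMap B D) '' ProEtW.closedPoints (PrimeSpectrum D) = Set.univ ∧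
      ∀ (m : Ideal C) [m.IsMaximal], EtCoh.IsStrictlyHenselianLocalRing (Localization.AtPrime m) := by
  obtain ⟨C, _, _, hffC, hfC, hwC, -, hshC, hsurjC⟩ := Contractible.exists_wContractible A
  let P := B ⊗[A] C
  let : CommRing (B ⊗[A] C) := inferInstance
  let : Algebra C (B ⊗[A] C) := Algebra.TensorProduct.rightAlgebra
  let K : Set (PrimeSpectrum (B ⊗[A] C)) :=
    PrimeSpectrum.comap (algebraMap C (B ⊗[A] C)) ⁻¹' ProEtW.closedPoints (PrimeSpectrum C)
  have hK : IsClosed K := hwC.2.1.preimage (PrimeSpectrum.continuous_comap _)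
  have : SpectralSpace K := Spectral.spectralSpace_subtype hK
  have hKmax : ∀ Q ∈ K, IsClosed ({Q} : Set (PrimeSpectrum (B ⊗[A] C))) := by
    intro Q hQ
    rw [PrimeSpectrum.isClosed_singleton_iff_isMaximal]
    let z : Ideal C := Q.asIdeal.comap (algebraMap C (B ⊗[A] C))
    have : z.IsMaximal := (PrimeSpectrum.isClosed_singleton_iff_isMaximal _).1 hQ
    let : Field (C ⧸ z) := Ideal.Quotient.field z
    have hint : Algebra.IsIntegral (C ⧸ z) (B ⊗[A] C ⧸ Q.asIdeal) := by
      refine ⟨fun x => ?_⟩
      obtain ⟨x, rfl⟩ := Ideal.Quotient.mk_surjective x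
      induction x using TensorProduct.induction_on with
      | zero => rw [map_zero]; exact isIntegral_zero
      | tmul b c =>
        rw [show b ⊗ₜ[A] c = (b ⊗ₜ 1) * (1 ⊗ₜ c) by simp, map_mul]
        refine IsIntegral.mul ?_ (isIntegral_algebraMap (x := Ideal.Quotient.mk z c))
        let qB : Ideal B := Q.asIdeal.comap (algebraMap B (B ⊗[A] C))
        let p : Ideal A := qB.comap (algebraMap A B)
        obtain ⟨f, hf0, hf⟩ := (h qB).isAlgebraic (Ideal.Quotient.mk qB b)
        let α : A ⧸ p →+* C ⧸ z := Ideal.quotientMap z (algebraMap A C) (by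
          intro a ha
          show algebraMap C (B ⊗[A] C) (algebraMap A C a) ∈ Q.asIdeal
          have : algebraMap C (B ⊗[A] C) (algebraMap A C a) =
              algebraMap B (B ⊗[A] C) (algebraMap A B a) := by
            show (1 : B) ⊗ₜ[A] algebraMap A C a = algebraMap A B a ⊗ₜ[A] (1 : C)
            rw [Algebra.algebraMap_eq_smul_one, Algebra.algebraMap_eq_smul_one, TensorProduct.smul_tmul]
          rw [this]
          exact ha)
        have hα : Function.Injective α := by
          refine Ideal.quotientMap_injective' fun a ha => ?_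
          show algebraMap B (B ⊗[A] C) (algebraMap A B a) ∈ Q.asIdeal
          have : algebraMap B (B ⊗[A] C) (algebraMap A B a) =
              algebraMap C (B ⊗[A] C) (algebraMap A C a) := by
            show algebraMap A B a ⊗ₜ[A] (1 : C) = (1 : B) ⊗ₜ[A] algebraMap A C a
            rw [Algebra.algebraMap_eq_smul_one, Algebra.algebraMap_eq_smul_one, TensorProduct.smul_tmul]
          rw [this]
          exact ha
        let β : B ⧸ qB →+* B ⊗[A] C ⧸ Q.asIdeal :=
          Ideal.quotientMap _ (algebraMap B (B ⊗[A] C)) le_rfl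
        refine isAlgebraic_iff_isIntegral.1 ⟨f.map α, (Polynomial.map_ne_zero_iff hα).2 hf0, ?_⟩
        rw [Polynomial.aeval_def, Polynomial.eval₂_map]
        have hc : (algebraMap (C ⧸ z) (B ⊗[A] C ⧸ Q.asIdeal)).comp α =
            β.comp (algebraMap (A ⧸ p) (B ⧸ qB)) := by
          refine Ideal.Quotient.ringHom_ext (RingHom.ext fun a => ?_)
          show Ideal.Quotient.mk Q.asIdeal ((1 : B) ⊗ₜ[A] algebraMap A C a) =
            Ideal.Quotient.mk Q.asIdeal (algebraMap A B a ⊗ₜ[A] (1 : C))
          rw [Algebra.algebraMap_eq_smul_one, Algebra.algebraMap_eq_smul_one, TensorProduct.smul_tmul]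
        rw [hc, show Ideal.Quotient.mk Q.asIdeal (b ⊗ₜ[A] (1 : C)) = β (Ideal.Quotient.mk qB b) from rfl,
          ← Polynomial.hom_eval₂,
          ← Polynomial.aeval_def, hf, map_zero]
      | add x y hx hy => rw [map_add]; exact hx.add hy
    exact Ideal.Quotient.maximal_of_isField _
      (isField_of_isIntegral_of_isField' (Field.toIsField (C ⧸ z)))
  have : T1Space K := ⟨fun x => by
    have : ({x} : Set K) = Subtype.val ⁻¹' {x.1} := by ext; simp [Subtype.ext_iff]
    rw [this]
    exact (hKmax x.1 x.2).preimage continuous_subtype_val⟩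
  have : T2Space K := Spectral.t2Space_of_t1Space
  have : TotallyDisconnectedSpace K := Spectral.totallyDisconnectedSpace_of_t1Space
  let hT : K → WithConstructibleTopology (PrimeSpectrum (B ⊗[A] C)) := fun x =>
    WithTopology.toTopology _ x.1
  have hhT : Continuous hT := by
    refine WLocalization.continuous_of_isClopen fun U hU hUc =>
      ⟨?_, hU.preimage continuous_subtype_val⟩
    exact (hK.isClosedEmbedding_subtypeVal.isCompact_preimage hUc).isClosed
  let D := LocFrac.Ring (WLocalization.sub hT)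
  let algBD : Algebra B D := ((algebraMap (B ⊗[A] C) D).comp (algebraMap B (B ⊗[A] C))).toAlgebra
  let algCD : Algebra C D := ((algebraMap (B ⊗[A] C) D).comp (algebraMap C (B ⊗[A] C))).toAlgebra
  let algAD : Algebra A D := ((algebraMap B D).comp (algebraMap A B)).toAlgebra
  have : IsScalarTower A B D := .of_algebraMap_eq fun _ => rfl
  have : IsScalarTower A C D := .of_algebraMap_eq fun a => by
    show algebraMap (B ⊗[A] C) D (algebraMap A B a ⊗ₜ[A] (1 : C)) =
      algebraMap (B ⊗[A] C) D ((1 : B) ⊗ₜ[A] algebraMap A C a)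
    rw [algebraMap_tmul_one]
  have : IsScalarTower B (B ⊗[A] C) D := .of_algebraMap_eq fun _ => rfl
  have hfD : Groth.Agent.IndAlg.Fac (Groth.Agent.IndAlg.Etale.Et B) D :=
    Groth.Agent.IndAlg.Etale.fac_trans (Groth.Agent.IndAlg.Etale.fac_baseChange hfC)
      (Groth.Agent.WEtale.Local.fac_of_isIndZariski (WLocalization.isIndZariski hhT))
  have hCD : algebraMap C D = (algebraMap (B ⊗[A] C) D).comp (algebraMap C (B ⊗[A] C)) := rfl
  have hcl : ProEtW.closedPoints (PrimeSpectrum D) =
      PrimeSpectrum.comap (algebraMap C D) ⁻¹' ProEtW.closedPoints (PrimeSpectrum C) := by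
    ext Q
    refine (WLocalization.isClosed_singleton_iff hhT Q).trans ⟨fun he => ?_, fun hQ => ?_⟩
    · show PrimeSpectrum.comap ((algebraMap (B ⊗[A] C) D).comp (algebraMap C (B ⊗[A] C))) Q ∈
        ProEtW.closedPoints (PrimeSpectrum C)
      rw [PrimeSpectrum.comap_comp_apply, show PrimeSpectrum.comap (algebraMap (B ⊗[A] C) D) Q =
        (LocFrac.pt Q).1 from he]
      exact (LocFrac.pt Q).2
    · have hK' : (LocFrac.toProd (S := WLocalization.sub hT) Q).1 ∈ K := by
        show PrimeSpectrum.comap (algebraMap C (B ⊗[A] C))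
          (PrimeSpectrum.comap (algebraMap (B ⊗[A] C) D) Q) ∈ ProEtW.closedPoints (PrimeSpectrum C)
        rw [← PrimeSpectrum.comap_comp_apply]
        exact hQ
      exact ((PrimeSpectrum.le_iff_specializes _ _).1 (WLocalization.le hhT Q)).mem_closed
        (hKmax _ hK') rfl |>.symm
  have hsurjD : ∀ y, ∃ Q ∈ ProEtW.closedPoints (PrimeSpectrum D),
      PrimeSpectrum.comap (algebraMap B D) Q = y := by
    intro y
    let x := PrimeSpectrum.comap (algebraMap A B) y
    obtain ⟨z, hz, hzx⟩ := hsurjC.ge (Set.mem_univ x)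
    let : Algebra x.asIdeal.ResidueField y.asIdeal.ResidueField :=
      (Ideal.ResidueField.map x.asIdeal y.asIdeal (algebraMap A B) rfl).toAlgebra
    have hxz : x.asIdeal = z.asIdeal.comap (algebraMap A C) :=
      congrArg PrimeSpectrum.asIdeal hzx.symm
    let : Algebra x.asIdeal.ResidueField z.asIdeal.ResidueField :=
      (Ideal.ResidueField.map x.asIdeal z.asIdeal (algebraMap A C) hxz).toAlgebra
    let : CommRing (y.asIdeal.ResidueField ⊗[x.asIdeal.ResidueField] z.asIdeal.ResidueField) :=
      inferInstance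
    obtain ⟨M, hM⟩ := Ideal.exists_maximal
      (y.asIdeal.ResidueField ⊗[x.asIdeal.ResidueField] z.asIdeal.ResidueField)
    let L := y.asIdeal.ResidueField ⊗[x.asIdeal.ResidueField] z.asIdeal.ResidueField ⧸ M
    let : Field L := Ideal.Quotient.field M
    let uB : B →+* L := ((Ideal.Quotient.mk M).comp
      Algebra.TensorProduct.includeLeftRingHom).comp (algebraMap B y.asIdeal.ResidueField)
    let uC : C →+* L := ((Ideal.Quotient.mk M).comp
      (Algebra.TensorProduct.includeRight : z.asIdeal.ResidueField →ₐ[x.asIdeal.ResidueField] _).toRingHom).comp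
        (algebraMap C z.asIdeal.ResidueField)
    obtain ⟨φ, hφB, hφC⟩ := exists_ringHom_tensor (A := A) (B := B) (C := C) uB uC (RingHom.ext fun a => by
      show Ideal.Quotient.mk M (1 ⊗ₜ algebraMap C z.asIdeal.ResidueField (algebraMap A C a)) =
        Ideal.Quotient.mk M (algebraMap B y.asIdeal.ResidueField (algebraMap A B a) ⊗ₜ 1)
      rw [← Ideal.ResidueField.map_algebraMap x.asIdeal z.asIdeal (algebraMap A C) hxz a,
        ← Ideal.ResidueField.map_algebraMap x.asIdeal y.asIdeal (algebraMap A B) rfl a]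
      exact congrArg (Ideal.Quotient.mk M) (algebraMap_tmul_one
        (A := x.asIdeal.ResidueField) (B := y.asIdeal.ResidueField) (C := z.asIdeal.ResidueField) _).symm)
    let P₀ : PrimeSpectrum (B ⊗[A] C) := ⟨RingHom.ker φ, RingHom.ker_isPrime _⟩
    have hB0 : PrimeSpectrum.comap (algebraMap B (B ⊗[A] C)) P₀ = y := by
      refine PrimeSpectrum.ext (Ideal.ext fun b => ?_)
      show φ (b ⊗ₜ[A] (1 : C)) = 0 ↔ _
      rw [hφB]
      show uB b = 0 ↔ _
      exact (map_eq_zero ((Ideal.Quotient.mk M).comp Algebra.TensorProduct.includeLeftRingHom)).trans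
        Ideal.algebraMap_residueField_eq_zero
    have hC0 : PrimeSpectrum.comap (algebraMap C (B ⊗[A] C)) P₀ = z := by
      refine PrimeSpectrum.ext (Ideal.ext fun c => ?_)
      show φ ((1 : B) ⊗ₜ[A] c) = 0 ↔ _
      rw [hφC]
      show uC c = 0 ↔ _
      exact (map_eq_zero ((Ideal.Quotient.mk M).comp (Algebra.TensorProduct.includeRight :
        z.asIdeal.ResidueField →ₐ[x.asIdeal.ResidueField] _).toRingHom)).trans
        Ideal.algebraMap_residueField_eq_zero
    have hP : P₀ ∈ K := show PrimeSpectrum.comap _ P₀ ∈ _ from hC0.symm ▸ hz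
    obtain ⟨Q, hQ⟩ := WLocalization.exists_closedPt hhT ⟨P₀, hP⟩
    refine ⟨Q, (WLocalization.isClosed_singleton_iff hhT Q).2 (by rw [hQ]), ?_⟩
    show PrimeSpectrum.comap ((algebraMap (B ⊗[A] C) D).comp (algebraMap B (B ⊗[A] C))) Q = y
    rw [PrimeSpectrum.comap_comp_apply]
    exact (congrArg _ (congr_arg Prod.fst hQ)).trans hB0
  refine ⟨C, D, inferInstance, inferInstance, inferInstance, algBD, algCD, algAD, inferInstance,
    inferInstance, hffC, hfC, ?_, hfD, hwC, WLocalization.isWLocal hhT,
    ⟨WUniversal.isSpectralMap_comap _, fun Q hQ => (hcl.le hQ :)⟩, hcl, hsurjC,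
    Set.eq_univ_of_forall hsurjD, fun m _ => hshC m⟩
  have := Groth.Agent.IndAlg.Etale.flat hfD
  exact Module.FaithfullyFlat.of_comap_surjective fun y => let ⟨Q, _, hQ⟩ := hsurjD y; ⟨Q, hQ⟩

end Groth.Agent.ProEtW.AlgResidue
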