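import Groth.Agent.IndAlg.Localization
import Groth.Agent.IndAlg.Etale
import Mathlib.Topology.LocallyConstant.Basic
import Mathlib.Topology.Separation.Profinite
import Mathlib.RingTheory.Etale.Pi
import Mathlib.RingTheory.Spectrum.Prime.Topology

/-!
Rings of locally constant families of fractions indexed by a profinite space.

Given a profinite space `T` and submonoids `S t` of a ring `A` such that each `{t | s ∈ S t}` is open,
`alg S` is the algebra of families `φ t : Localization (S t)` which locally on `T` are of the form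
`a / s`. It is ind-Zariski over `A` and its spectrum is `{(p, t) | p ∩ S t = ∅} ⊆ Spec A × T`.
-/

universe u

namespace Groth.Agent.ProEtW.LocFrac

open Set Topology TopologicalSpace

variable {A : Type u} [CommRing A] {T : Type u} [TopologicalSpace T] (S : T → Submonoid A)

/-- The algebra of locally constant fractions. -/
def alg : Subalgebra A (∀ t, Localization (S t)) where
  carrier := {φ | ∀ t, ∃ (W : Set T) (a s : A), IsClopen W ∧ t ∈ W ∧
    ∀ x ∈ W, s ∈ S x ∧ φ x * algebraMap A _ s = algebraMap A _ a}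
  mul_mem' {φ ψ} hφ hψ t := by
    obtain ⟨W, a, s, hW, htW, h⟩ := hφ t
    obtain ⟨W', a', s', hW', htW', h'⟩ := hψ t
    refine ⟨W ∩ W', a * a', s * s', hW.inter hW', ⟨htW, htW'⟩, fun x hx => ⟨?_, ?_⟩⟩
    · exact mul_mem (h x hx.1).1 (h' x hx.2).1
    · rw [Pi.mul_apply, map_mul, map_mul, ← (h x hx.1).2, ← (h' x hx.2).2]; ring
  add_mem' {φ ψ} hφ hψ t := by
    obtain ⟨W, a, s, hW, htW, h⟩ := hφ t
    obtain ⟨W', a', s', hW', htW', h'⟩ := hψ t
    refine ⟨W ∩ W', a * s' + a' * s, s * s', hW.inter hW', ⟨htW, htW'⟩, fun x hx => ⟨?_, ?_⟩⟩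
    · exact mul_mem (h x hx.1).1 (h' x hx.2).1
    · rw [Pi.add_apply, map_add, map_mul, map_mul, map_mul, ← (h x hx.1).2, ← (h' x hx.2).2]; ring
  algebraMap_mem' a t :=
    ⟨univ, a, 1, isClopen_univ, trivial, fun x _ => ⟨one_mem _, by simp⟩⟩

abbrev Ring : Type u := ↥(alg S)

/-- Evaluation. -/
def ev (t : T) : Ring S →ₐ[A] Localization (S t) := (Pi.evalAlgHom A _ t).comp (alg S).val

theorem ext {φ ψ : Ring S} (h : ∀ t, ev S t φ = ev S t ψ) : φ = ψ := Subtype.ext (funext h)

omit [TopologicalSpace T] in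
theorem isUnit_of_mem {s : A} {x : T} (h : s ∈ S x) :
    IsUnit (algebraMap A (Localization (S x)) s) :=
  IsLocalization.map_units (Localization (S x)) (⟨s, h⟩ : S x)

variable {S}
variable (hS : ∀ s, IsOpen {t | s ∈ S t})

section
variable [CompactSpace T] [T2Space T] [TotallyDisconnectedSpace T]

include hS in
theorem exists_zero_nhd {φ : Ring S} {t : T} (h : ev S t φ = 0) :
    ∃ W : Set T, IsClopen W ∧ t ∈ W ∧ ∀ x ∈ W, ev S x φ = 0 := by
  obtain ⟨W, a, s, hW, htW, hφ⟩ := φ.2 t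
  have h0 : algebraMap A (Localization (S t)) a = 0 := by
    rw [← (hφ t htW).2]
    show ev S t φ * _ = 0
    rw [h, zero_mul]
  obtain ⟨c, hc⟩ := (IsLocalization.map_eq_zero_iff (S t) _ _).1 h0
  obtain ⟨V, hV, htV, hVc⟩ := compact_exists_isClopen_in_isOpen (hS c) (x := t) c.2
  refine ⟨W ∩ V, hW.inter hV, ⟨htW, htV⟩, fun x hx => ?_⟩
  have hax : algebraMap A (Localization (S x)) a = 0 :=
    (IsLocalization.map_eq_zero_iff (S x) _ _).2 ⟨⟨c, hVc hx.2⟩, hc⟩
  refine (isUnit_of_mem S (hφ x hx.1).1).mul_left_eq_zero.1 ?_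
  exact (hφ x hx.1).2.trans hax

include hS in
theorem exists_eq_nhd {φ ψ : Ring S} {t : T} (h : ev S t φ = ev S t ψ) :
    ∃ W : Set T, IsClopen W ∧ t ∈ W ∧ ∀ x ∈ W, ev S x φ = ev S x ψ := by
  obtain ⟨W, hW, htW, h0⟩ := exists_zero_nhd hS (φ := φ - ψ) (t := t) (by rw [map_sub, h, sub_self])
  exact ⟨W, hW, htW, fun x hx => sub_eq_zero.1 (by rw [← map_sub]; exact h0 x hx)⟩

omit [T2Space T] [TotallyDisconnectedSpace T] in
/-- Finite clopen partitions. -/
theorem exists_partition (P : T → Set T) (hP : ∀ t, IsClopen (P t)) (hmem : ∀ t, t ∈ P t) :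
    ∃ (n : ℕ) (pt : Fin n → T) (idx : T → Fin n), IsLocallyConstant idx ∧
      ∀ x, x ∈ P (pt (idx x)) := by
  classical
  obtain ⟨F, hF⟩ := isCompact_univ.elim_finite_subcover P (fun t => (hP t).2)
    (fun t _ => mem_iUnion.2 ⟨t, hmem t⟩)
  let pt : Fin F.card → T := fun i => (F.equivFin.symm i).1
  have hex : ∀ x, ∃ i, x ∈ P (pt i) := by
    intro x
    obtain ⟨t, ht, hx⟩ := mem_iUnion₂.1 (hF (mem_univ x))
    exact ⟨F.equivFin ⟨t, ht⟩, by simpa [pt] using hx⟩
  refine ⟨F.card, pt, fun x => Fin.find _ (hex x), ?_, fun x => Fin.find_spec (hex x)⟩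
  rw [IsLocallyConstant.iff_exists_open]
  intro x
  refine ⟨⋂ i, if x ∈ P (pt i) then P (pt i) else (P (pt i))ᶜ,
    isOpen_iInter_of_finite fun i => ?_, mem_iInter.2 fun i => ?_, fun y hy => ?_⟩
  · split_ifs
    exacts [(hP _).2, (hP _).compl.2]
  · split_ifs with h <;> exact h
  · have : ∀ i, (y ∈ P (pt i) ↔ x ∈ P (pt i)) := fun i => by
      have := mem_iInter.1 hy i
      split_ifs at this with h
      · exact iff_of_true this h
      · exact iff_of_false this h
    simp only [this]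

open Classical in
omit [CompactSpace T] [T2Space T] [TotallyDisconnectedSpace T] in
theorem piecewise_mem {W : Set T} (hW : IsClopen W) {a s : A} (hs : ∀ x ∈ W, s ∈ S x) :
    (fun x => if h : x ∈ W then IsLocalization.mk' (Localization (S x)) a ⟨s, hs x h⟩ else 0) ∈
      alg S := by
  intro t
  by_cases ht : t ∈ W
  · refine ⟨W, a, s, hW, ht, fun x hx => ⟨hs x hx, ?_⟩⟩
    simp only [dif_pos hx]
    exact IsLocalization.mk'_spec _ a (⟨s, hs x hx⟩ : S x)
  · exact ⟨Wᶜ, 0, 1, hW.compl, ht, fun x hx => ⟨one_mem _, by simp [dif_neg (show x ∉ W from hx)]⟩⟩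

open Classical in
/-- The fraction `a / s` on `W`, zero elsewhere. -/
noncomputable def frac (W : Set T) (hW : IsClopen W) (a s : A) (hs : ∀ x ∈ W, s ∈ S x) : Ring S :=
  ⟨_, piecewise_mem hW hs (a := a)⟩

omit [CompactSpace T] [T2Space T] [TotallyDisconnectedSpace T] in
theorem frac_mul {W : Set T} (hW : IsClopen W) {a s : A} (hs : ∀ x ∈ W, s ∈ S x) {x : T}
    (hx : x ∈ W) :
    ev S x (frac W hW a s hs) * algebraMap A _ s = algebraMap A _ a := by
  classical
  show (if h : x ∈ W then _ else 0) * _ = _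
  rw [dif_pos hx]
  exact IsLocalization.mk'_spec _ a (⟨s, hs x hx⟩ : S x)

include hS in
theorem ev_surjective (t : T) : Function.Surjective (ev S t) := by
  intro y
  obtain ⟨a, s, rfl⟩ := IsLocalization.exists_mk'_eq (S t) y
  obtain ⟨W, hW, htW, hWs⟩ := compact_exists_isClopen_in_isOpen (hS s) (x := t) s.2
  refine ⟨frac W hW a s hWs, ?_⟩
  rw [IsLocalization.eq_mk'_iff_mul_eq]
  exact frac_mul hW hWs htW

/-- The idempotent of a clopen set. -/
noncomputable def idem (W : Set T) (hW : IsClopen W) : Ring S :=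
  frac W hW 1 1 fun _ _ => one_mem _

omit [CompactSpace T] [T2Space T] [TotallyDisconnectedSpace T] in
theorem ev_idem_of_mem {W : Set T} (hW : IsClopen W) {x : T} (hx : x ∈ W) :
    ev S x (idem W hW) = 1 := by
  simpa [idem] using frac_mul (S := S) hW (a := 1) (s := 1) (fun _ _ => one_mem _) hx

omit [CompactSpace T] [T2Space T] [TotallyDisconnectedSpace T] in
theorem ev_idem_of_notMem {W : Set T} (hW : IsClopen W) {x : T} (hx : x ∉ W) :
    ev S x (idem W hW) = 0 := by
  classical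
  show (if h : x ∈ W then _ else 0) = _
  rw [dif_neg hx]

omit [CompactSpace T] [T2Space T] [TotallyDisconnectedSpace T] in
theorem idem_inter {V W : Set T} (hV : IsClopen V) (hW : IsClopen W) :
    idem (S := S) (V ∩ W) (hV.inter hW) = idem V hV * idem W hW := by
  refine ext S fun x => ?_
  rw [map_mul]
  by_cases h : x ∈ V
  · by_cases h' : x ∈ W
    · rw [ev_idem_of_mem _ h, ev_idem_of_mem _ h', ev_idem_of_mem (hV.inter hW) (mem_inter h h'), one_mul]
    · rw [ev_idem_of_notMem _ h', ev_idem_of_notMem _ fun hh => h' hh.2, mul_zero]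
  · rw [ev_idem_of_notMem _ h, ev_idem_of_notMem _ fun hh => h hh.1, zero_mul]

omit [CompactSpace T] [T2Space T] [TotallyDisconnectedSpace T] in
theorem idem_add_compl {W : Set T} (hW : IsClopen W) :
    idem (S := S) W hW + idem Wᶜ hW.compl = 1 := by
  refine ext S fun x => ?_
  rw [map_add, map_one]
  by_cases h : x ∈ W
  · rw [ev_idem_of_mem _ h, ev_idem_of_notMem _ (not_not.2 h), add_zero]
  · rw [ev_idem_of_notMem _ h, ev_idem_of_mem _ h, zero_add]

theorem existsUnique_pt (Q : PrimeSpectrum (Ring S)) :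
    ∃! t : T, ∀ (W : Set T) (hW : IsClopen W), idem W hW ∉ Q.asIdeal ↔ t ∈ W := by
  have hc : ∀ (W : Set T) (hW : IsClopen W), idem W hW ∈ Q.asIdeal →
      idem Wᶜ hW.compl ∉ Q.asIdeal := fun W hW h h' =>
    Q.2.one_notMem (idem_add_compl (S := S) hW ▸ add_mem h h')
  let ι := {W : Set T // ∃ hW : IsClopen W, idem (S := S) W hW ∉ Q.asIdeal}
  have hfip : ∀ F : Finset ι, (univ ∩ ⋂ W ∈ F, (W : ι).1).Nonempty := by
    intro F
    classical
    have key : ∃ hW : IsClopen (⋂ W ∈ F, (W : ι).1),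
        idem (S := S) _ hW ∉ Q.asIdeal := by
      induction F using Finset.induction with
      | empty =>
        have h1 : idem (S := S) univ isClopen_univ = 1 :=
          ext S fun x => by rw [ev_idem_of_mem _ (mem_univ x), map_one]
        simp only [Finset.notMem_empty, iInter_of_empty, iInter_univ]
        exact ⟨isClopen_univ, h1 ▸ Q.2.one_notMem⟩
      | insert W F _ ih =>
        obtain ⟨h1, h2⟩ := W.2
        obtain ⟨h3, h4⟩ := ih
        rw [Finset.set_biInter_insert]
        exact ⟨h1.inter h3, idem_inter (S := S) h1 h3 ▸ Q.2.mul_notMem h2 h4⟩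
    obtain ⟨hW, hn⟩ := key
    rw [univ_inter, nonempty_iff_ne_empty]
    intro he
    refine hn ?_
    have : idem (S := S) _ hW = 0 :=
      ext S fun x => by rw [ev_idem_of_notMem _ (he ▸ notMem_empty x), map_zero]
    rw [this]
    exact zero_mem _
  obtain ⟨t, -, ht⟩ := isCompact_univ.inter_iInter_nonempty (fun W : ι => W.1)
    (fun W => W.2.1.1) hfip
  rw [mem_iInter] at ht
  refine ⟨t, fun W hW => ⟨fun h => ht ⟨W, hW, h⟩, fun h h' =>
    ht ⟨Wᶜ, hW.compl, hc W hW h'⟩ h⟩, fun t' ht' => ?_⟩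
  by_contra hne
  obtain ⟨W, hW, h1, h2⟩ := exists_isClopen_of_totally_separated hne
  exact h2 (ht ⟨W, hW, (ht' W hW).2 h1⟩)

/-- The point of `T` under a prime. -/
noncomputable def pt (Q : PrimeSpectrum (Ring S)) : T := (existsUnique_pt Q).choose

theorem pt_spec (Q : PrimeSpectrum (Ring S)) {W : Set T} (hW : IsClopen W) :
    idem W hW ∉ Q.asIdeal ↔ pt Q ∈ W :=
  (existsUnique_pt Q).choose_spec.1 W hW

include hS in
theorem ker_le (Q : PrimeSpectrum (Ring S)) {φ : Ring S} (h : ev S (pt Q) φ = 0) :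
    φ ∈ Q.asIdeal := by
  obtain ⟨W, hW, htW, h0⟩ := exists_zero_nhd hS h
  have : φ * idem W hW = 0 := ext S fun x => by
    rw [map_mul, map_zero]
    by_cases hx : x ∈ W
    · rw [h0 x hx, zero_mul]
    · rw [ev_idem_of_notMem _ hx, mul_zero]
  exact (Q.2.mem_or_mem (this ▸ zero_mem _)).resolve_right ((pt_spec Q hW).2 htW)

include hS in
theorem notMem_of_mem (Q : PrimeSpectrum (Ring S)) {s : A} (h : s ∈ S (pt Q)) :
    algebraMap A (Ring S) s ∉ Q.asIdeal := by
  intro hs
  obtain ⟨y, hy⟩ := (isUnit_of_mem S h).exists_left_inv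
  obtain ⟨ψ, rfl⟩ := ev_surjective hS (pt Q) y
  refine Q.2.one_notMem ?_
  have h1 : ψ * algebraMap A _ s - 1 ∈ Q.asIdeal :=
    ker_le hS Q (by rw [map_sub, map_mul, AlgHom.commutes, hy, map_one, sub_self])
  simpa using sub_mem (Ideal.mul_mem_left _ ψ hs) h1

include hS in
theorem mem_iff (Q : PrimeSpectrum (Ring S)) {φ : Ring S} {a s : A} (hs : s ∈ S (pt Q))
    (h : ev S (pt Q) φ * algebraMap A _ s = algebraMap A _ a) :
    φ ∈ Q.asIdeal ↔ algebraMap A _ a ∈ Q.asIdeal := by
  have h1 : φ * algebraMap A _ s - algebraMap A _ a ∈ Q.asIdeal :=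
    ker_le hS Q (by rw [map_sub, map_mul, AlgHom.commutes, AlgHom.commutes, h, sub_self])
  constructor
  · exact fun hφ => (Submodule.sub_mem_iff_right _ (Ideal.mul_mem_right _ _ hφ)).1 h1
  · exact fun ha => (Q.2.mem_or_mem ((Submodule.sub_mem_iff_left _ ha).1 h1)).resolve_right
      (notMem_of_mem hS Q hs)

/-- The map from the spectrum to `Spec A × T`. -/
noncomputable def toProd (Q : PrimeSpectrum (Ring S)) : PrimeSpectrum A × T :=
  (PrimeSpectrum.comap (algebraMap A (Ring S)) Q, pt Q)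

theorem continuous_pt : Continuous (pt (S := S)) := by
  have hb := isTopologicalBasis_isClopen (X := T)
  rw [hb.continuous_iff]
  intro W hW
  have : pt ⁻¹' W = ((PrimeSpectrum.basicOpen (idem (S := S) W hW) : Opens (PrimeSpectrum (Ring S))) : Set (PrimeSpectrum (Ring S))) := by
    ext Q
    exact (pt_spec Q hW).symm
  rw [this]
  exact (PrimeSpectrum.basicOpen _).isOpen

include hS in
theorem toProd_isEmbedding : IsEmbedding (toProd (S := S)) := by
  have hc : Continuous (toProd (S := S)) :=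
    (PrimeSpectrum.continuous_comap _).prodMk continuous_pt
  refine ⟨⟨le_antisymm (continuous_iff_le_induced.1 hc) ?_⟩, ?_⟩
  · refine le_trans (le_generateFrom ?_) PrimeSpectrum.isTopologicalBasis_basic_opens.eq_generateFrom.ge
    rintro _ ⟨φ, rfl⟩
    rw [isOpen_induced_iff]
    let Ω : Set (PrimeSpectrum A × T) := ⋃ (p : Set T × A × A)
      (_ : IsClopen p.1 ∧ ∀ x ∈ p.1, p.2.2 ∈ S x ∧
        ev S x φ * algebraMap A _ p.2.2 = algebraMap A _ p.2.1),
      (PrimeSpectrum.basicOpen p.2.1 : Set _) ×ˢ p.1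
    refine ⟨Ω, isOpen_iUnion fun p => isOpen_iUnion fun hp =>
      (PrimeSpectrum.basicOpen _).isOpen.prod hp.1.2, ?_⟩
    ext Q
    simp only [Ω, mem_preimage, mem_iUnion, mem_prod, SetLike.mem_coe]
    constructor
    · rintro ⟨⟨W, a, s⟩, ⟨-, hp⟩, ha, hW⟩
      exact fun h => ha ((mem_iff hS Q (hp _ hW).1 (hp _ hW).2).1 h)
    · intro hφ
      obtain ⟨W, a, s, hW, htW, hp⟩ := φ.2 (pt Q)
      exact ⟨⟨W, a, s⟩, ⟨hW, hp⟩, fun h => hφ ((mem_iff hS Q (hp _ htW).1 (hp _ htW).2).2 h), htW⟩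
  · intro Q Q' h
    have h1 : PrimeSpectrum.comap (algebraMap A (Ring S)) Q =
      PrimeSpectrum.comap (algebraMap A (Ring S)) Q' := congr_arg Prod.fst h
    have h2 : pt Q = pt Q' := congr_arg Prod.snd h
    refine PrimeSpectrum.ext (Ideal.ext fun φ => ?_)
    obtain ⟨W, a, s, -, htW, hp⟩ := φ.2 (pt Q)
    rw [mem_iff hS Q (hp _ htW).1 (hp _ htW).2, mem_iff hS Q' (hp _ (h2 ▸ htW)).1 (hp _ (h2 ▸ htW)).2]
    exact congr(a ∈ ($h1).asIdeal).to_iff

include hS in
theorem range_toProd :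
    range (toProd (S := S)) = {q | ∀ s ∈ S q.2, s ∉ q.1.asIdeal} := by
  refine Subset.antisymm (range_subset_iff.2 fun Q s hs => notMem_of_mem hS Q hs) ?_
  rintro ⟨p, t⟩ hp
  have hd : Disjoint (S t : Set A) (p.asIdeal : Set A) := Set.disjoint_left.2 hp
  let P : Ideal (Localization (S t)) := p.asIdeal.map (algebraMap A _)
  have : P.IsPrime := IsLocalization.isPrime_of_isPrime_disjoint (S t) _ p.asIdeal p.2 hd
  let Q : PrimeSpectrum (Ring S) := PrimeSpectrum.comap (ev S t).toRingHom ⟨P, this⟩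
  have hQ : ∀ φ, φ ∈ Q.asIdeal ↔ ev S t φ ∈ P := fun φ => Iff.rfl
  have hpt : pt Q = t := by
    by_contra hne
    obtain ⟨W, hW, h1, h2⟩ := exists_isClopen_of_totally_separated hne
    refine (pt_spec Q hW).2 h1 ((hQ _).2 ?_)
    rw [ev_idem_of_notMem _ h2]
    exact zero_mem _
  refine ⟨Q, Prod.ext ?_ hpt⟩
  refine PrimeSpectrum.ext ?_
  show Ideal.comap (algebraMap A (Ring S)) (Ideal.comap (ev S t).toRingHom P) = p.asIdeal
  rw [Ideal.comap_comap, AlgHom.toRingHom_eq_coe, AlgHom.comp_algebraMap]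
  exact IsLocalization.under_map_of_isPrime_disjoint (S t) _ p.2 hd

/-- Local isomorphisms that are etale. -/
def Q' (A : Type u) [CommRing A] : ∀ (E : Type u) [CommRing E] [Algebra A E], Prop :=
  fun E _ _ => Algebra.Etale A E ∧ Algebra.IsLocalIso A E

include hS in
theorem fac : Groth.Agent.IndAlg.Fac (Q' A) (Ring S) := by
  classical
  intro Z _ _ hZ g
  obtain ⟨n, f, hf, -⟩ := hZ.out
  have hloc : ∀ t, ∃ (W : Set T) (r : A) (v : Z →ₐ[A] Localization.Away r), IsClopen W ∧ t ∈ W ∧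
      ∀ x ∈ W, ∃ w : Localization.Away r →ₐ[A] Localization (S x), w.comp v = (ev S x).comp g := by
    intro t
    obtain ⟨E, _, _, hE, v, w, hvw⟩ :=
      Groth.Agent.IndAlg.Localization.fac_localization (B := Localization (S t)) (S t) Z hZ
        ((ev S t).comp g)
    have : Algebra.IsStandardOpenImmersion A E := hE
    obtain ⟨r, hr⟩ := Algebra.IsStandardOpenImmersion.exists_away A E
    let e : E ≃ₐ[A] Localization.Away r := IsLocalization.algEquiv (Submonoid.powers r) _ _
    have hru : IsUnit (algebraMap A (Localization (S t)) r) := by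
      rw [← w.commutes]
      exact (IsLocalization.Away.algebraMap_isUnit (S := E) r).map w
    obtain ⟨m, hm, d, rfl⟩ := (IsLocalization.algebraMap_isUnit_iff (S t)).1 hru
    obtain ⟨W, hW, htW, hWm⟩ := compact_exists_isClopen_in_isOpen (hS (r * d)) (x := t) hm
    have hu : ∀ x ∈ W, IsUnit (algebraMap A (Localization (S x)) r) := fun x hx =>
      isUnit_of_dvd_unit ((algebraMap A _).map_dvd (dvd_mul_right r d)) (isUnit_of_mem S (hWm hx))
    let L : ∀ x ∈ W, Localization.Away r →ₐ[A] Localization (S x) := fun x hx =>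
      { IsLocalization.Away.lift (S := Localization.Away r) r (hu x hx) with
        commutes' := fun a => IsLocalization.Away.lift_eq r (hu x hx) a }
    have hk : ∀ k, ∃ V : Set T, IsClopen V ∧ t ∈ V ∧ ∀ (x) (hxW : x ∈ W), x ∈ V →
        L x hxW (e (v (f (MvPolynomial.X k)))) = ev S x (g (f (MvPolynomial.X k))) := by
      intro k
      set y := e (v (f (MvPolynomial.X k))) with hy
      obtain ⟨b, ⟨_, i, rfl⟩, hb⟩ := IsLocalization.exists_mk'_eq (Submonoid.powers r) y
      have hWm' : ∀ x ∈ W, (r * d) ^ i ∈ S x := fun x hx => pow_mem (hWm hx) i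
      let ψ := frac (S := S) W hW (b * d ^ i) ((r * d) ^ i) hWm'
      have hψ : ∀ (x) (hx : x ∈ W), L x hx y = ev S x ψ := by
        intro x hx
        refine (isUnit_of_mem S (hWm' x hx)).mul_left_inj.1 ?_
        rw [frac_mul hW hWm' hx, ← (L x hx).commutes, ← (L x hx).commutes]
        refine ((L x hx).map_mul' _ _).symm.trans (congrArg (L x hx) ?_)
        rw [← hb, mul_pow, map_mul, map_mul, ← mul_assoc, IsLocalization.mk'_spec]
      have ht : ev S t ψ = ev S t (g (f (MvPolynomial.X k))) := by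
        rw [← hψ t htW]
        have : Subsingleton (Localization.Away r →ₐ[A] Localization (S t)) :=
          IsLocalization.algHom_subsingleton (Submonoid.powers r)
        rw [Subsingleton.elim (L t htW) (w.comp e.symm.toAlgHom)]
        exact (by simp [y] : (w.comp e.symm.toAlgHom) y = w (v (f (MvPolynomial.X k)))).trans
          congr($hvw (f (MvPolynomial.X k)))
      obtain ⟨V, hV, htV, hVeq⟩ := exists_eq_nhd hS ht
      exact ⟨V, hV, htV, fun x hxW hxV => (hψ x hxW).trans (hVeq x hxV)⟩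
    choose V hV htV hVeq using hk
    refine ⟨W ∩ ⋂ k, V k, r, e.toAlgHom.comp v, hW.inter (isClopen_iInter_of_finite hV),
      ⟨htW, mem_iInter.2 htV⟩, fun x hx => ⟨L x hx.1, ?_⟩⟩
    refine (AlgHom.cancel_right hf).1 (MvPolynomial.algHom_ext fun k => ?_)
    exact hVeq k x hx.1 (mem_iInter.1 hx.2 k)
  choose W r v hW htW w hw using hloc
  obtain ⟨N, p, idx, hidx, hmem⟩ := exists_partition W hW htW
  let R := ∀ i : Fin N, Localization.Away (r (p i))
  let G0 : R →ₐ[A] ∀ x, Localization (S x) := AlgHom.pi fun x =>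
    (w _ x (hmem x)).comp (Pi.evalAlgHom A (fun i => Localization.Away (r (p i))) (idx x))
  have hG : ∀ y, G0 y ∈ alg S := by
    intro y t
    obtain ⟨b, ⟨_, i, rfl⟩, hb⟩ :=
      IsLocalization.exists_mk'_eq (Submonoid.powers (r (p (idx t)))) (y (idx t))
    let x0 := t
    have hru : IsUnit (algebraMap A (Localization (S t)) (r (p (idx t)))) := by
      rw [← (w _ t (hmem t)).commutes]
      exact (IsLocalization.Away.algebraMap_isUnit _).map _
    obtain ⟨m, hm, d, rfl⟩ := (IsLocalization.algebraMap_isUnit_iff (S t)).1 hru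
    set c := r (p (idx t)) with hc
    obtain ⟨V, hV, htV, hVm⟩ := compact_exists_isClopen_in_isOpen (hS (c * d)) (x := t) hm
    refine ⟨V ∩ idx ⁻¹' {idx t}, b * d ^ i, (c * d) ^ i, hV.inter (hidx.isClopen_fiber _),
      ⟨htV, rfl⟩, fun x hx => ⟨pow_mem (hVm hx.1) i, ?_⟩⟩
    show w _ x (hmem x) (y (idx x)) * _ = _
    suffices key : ∀ (j : Fin N) (hj : x ∈ W (p j)), j = idx t →
        w (p j) x hj (y j) * algebraMap A _ ((c * d) ^ i) = algebraMap A _ (b * d ^ i) from
      key _ _ hx.2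
    rintro j hj' rfl
    set w' := w _ x hj'
    rw [← w'.commutes, ← w'.commutes]
    refine (w'.map_mul' _ _).symm.trans (congrArg w' ?_)
    rw [← hb, mul_pow, map_mul, map_mul, ← mul_assoc, IsLocalization.mk'_spec]
  refine ⟨R, inferInstance, inferInstance, ⟨?_, ?_⟩, AlgHom.pi fun i => v (p i),
    G0.codRestrict (alg S) hG, AlgHom.ext fun z => ext S fun x => congr($(hw _ x (hmem x)) z)⟩
  · have : ∀ i, Algebra.Etale A (Localization.Away (r (p i))) := fun i =>
      Algebra.Etale.of_isLocalizationAway (r (p i))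
    infer_instance
  · exact Algebra.IsLocalIso.pi_of_finite A _

include hS in
theorem isIndZariski : EtPBC.IsIndZariski A (Ring S) := by
  obtain ⟨J, i1, i2, D, c, hc, hQ, he⟩ := Groth.Agent.IndAlg.isInd_of_fac
    (fun E _ _ (h : Q' A E) => have := h.1; inferInstance)
    (fun E E' _ _ _ _ e (h : Q' A E) =>
      ⟨have := h.1; Algebra.Etale.of_equiv e, have := h.2; Algebra.IsLocalIso.of_algEquiv e⟩)
    (fac hS)
  exact ⟨J, i1, i2, D, c, hc, fun j => (hQ j).2, he⟩

include hS in
theorem flat : Module.Flat A (Ring S) :=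
  Groth.Agent.IndAlg.Etale.flat (Groth.Agent.IndAlg.fac_mono
    (fun _ _ _ (h : Q' A _) => Groth.Agent.IndAlg.fac_self h.1) (fac hS))

end

end Groth.Agent.ProEtW.LocFrac
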