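import Groth.Agent.ProEtW.Spectral

/-!
Pullback of a spectral space along a map of profinite spaces to its space of connected components.
-/

namespace Groth.Agent.ProEtW.Pullback

open Set Topology TopologicalSpace Groth.Agent.ProEtW.Spectral

variable {X T : Type*} [TopologicalSpace X] [TopologicalSpace T]

theorem isTopologicalBasis_boxes [PrespectralSpace X] [CompactSpace T] [T2Space T]
    [TotallyDisconnectedSpace T] :
    IsTopologicalBasis (range fun p : {U : Set X // IsOpen U ∧ IsCompact U} × {V : Set T // IsClopen V} =>
      p.1.1 ×ˢ p.2.1) := by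
  have hT : IsTopologicalBasis {s : Set T | IsClopen s} := isTopologicalBasis_isClopen
  have := (PrespectralSpace.isTopologicalBasis (X := X)).prod hT
  convert this using 1
  ext s
  simp [Set.mem_image2]

theorem spectralSpace_prod [SpectralSpace X] [CompactSpace T] [T2Space T]
    [TotallyDisconnectedSpace T] : SpectralSpace (X × T) := by
  have hb := isTopologicalBasis_boxes (X := X) (T := T)
  have : QuasiSober (X × T) := by
    constructor
    intro S hS hSc
    have hT : (Prod.snd '' S).Subsingleton := by
      refine isPreirreducible_iff_subsingleton.1 ?_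
      exact (hS.image Prod.snd continuous_snd.continuousOn).isPreirreducible
    obtain ⟨⟨x₀, t⟩, ht⟩ := hS.nonempty
    have hsub : ∀ p ∈ S, p.2 = t := fun p hp => hT (mem_image_of_mem _ hp) (mem_image_of_mem _ ht)
    have himg : IsClosed ((fun x => (x, t)) ⁻¹' S) := hSc.preimage (continuous_id.prodMk continuous_const)
    have hirr : IsIrreducible (Prod.fst '' S) := hS.image _ continuous_fst.continuousOn
    have heq : Prod.fst '' S = (fun x => (x, t)) ⁻¹' S := by
      ext x
      exact ⟨fun ⟨p, hp, hpx⟩ => by
        have : (x, t) = p := Prod.ext hpx.symm (hsub p hp).symm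
        exact (this ▸ hp : (x, t) ∈ S), fun h => ⟨(x, t), h, rfl⟩⟩
    obtain ⟨η, hη⟩ := QuasiSober.sober hirr (heq ▸ himg)
    refine ⟨(η, t), ?_⟩
    rw [isGenericPoint_def, ← singleton_prod_singleton, closure_prod_eq, hη, closure_singleton, heq]
    ext p
    constructor
    · intro ⟨h1, h2⟩
      have : p = (p.1, t) := Prod.ext rfl h2
      exact this ▸ h1
    · intro hp
      exact ⟨(Prod.ext rfl (hsub p hp) : p = (p.1, t)) ▸ hp, hsub p hp⟩
  have hc : ∀ p : {U : Set X // IsOpen U ∧ IsCompact U} × {V : Set T // IsClopen V},
      IsCompact (p.1.1 ×ˢ p.2.1) := fun p => p.1.2.2.prod p.2.2.1.isCompact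
  have : PrespectralSpace (X × T) := PrespectralSpace.of_isTopologicalBasis hb (by
    rintro _ ⟨p, rfl⟩
    exact hc p)
  have : QuasiSeparatedSpace (X × T) := QuasiSeparatedSpace.of_isTopologicalBasis hb fun p q => by
    rw [prod_inter_prod]
    exact (p.1.2.2.inter_of_isOpen q.1.2.2 p.1.2.1 q.1.2.1).prod (p.2.2.inter q.2.2).1.isCompact
  exact {}

/-- The pullback `X ×_{π₀ X} T`. -/
abbrev Fib (g : C(T, ConnectedComponents X)) : Type _ :=
  {p : X × T // ConnectedComponents.mk p.1 = g p.2}

theorem isClosed_fib [CompactSpace X] [PrespectralSpace X] [QuasiSeparatedSpace X]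
    (g : C(T, ConnectedComponents X)) :
    IsClosed {p : X × T | ConnectedComponents.mk p.1 = g p.2} :=
  have := t2Space_connectedComponents (X := X)
  isClosed_eq (ConnectedComponents.continuous_coe.comp continuous_fst) (g.continuous.comp continuous_snd)

theorem spectralSpace_fib [SpectralSpace X] [CompactSpace T] [T2Space T]
    [TotallyDisconnectedSpace T] (g : C(T, ConnectedComponents X)) : SpectralSpace (Fib g) :=
  have := spectralSpace_prod (X := X) (T := T)
  spectralSpace_subtype (isClosed_fib g)

theorem exists_homeomorph [SpectralSpace X] [CompactSpace T] [T2Space T]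
    [TotallyDisconnectedSpace T] (g : C(T, ConnectedComponents X)) :
    ∃ e : ConnectedComponents (Fib g) ≃ₜ T, ∀ y : Fib g, e (ConnectedComponents.mk y) = y.1.2 := by
  have := spectralSpace_fib g
  have hsnd : Continuous fun y : Fib g => y.1.2 := continuous_snd.comp continuous_subtype_val
  let φ := hsnd.connectedComponentsLift
  have hφ : Continuous φ := hsnd.connectedComponentsLift_continuous
  have hmk : ∀ y : Fib g, φ (ConnectedComponents.mk y) = y.1.2 := fun _ => rfl
  have hbij : Function.Bijective φ := by
    refine ⟨ConnectedComponents.surjective_coe.forall₂.2 fun y y' h => ?_, fun t => ?_⟩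
    · rw [hmk, hmk] at h
      refine ConnectedComponents.coe_eq_coe'.2 ?_
      let t := y'.1.2
      let C : Set (Fib g) := {z | z.1.2 = t}
      have hC : IsPreconnected C := by
        refine Topology.IsInducing.subtypeVal.isPreconnected_image.1 ?_
        have : Subtype.val '' C = (ConnectedComponents.mk ⁻¹' {g t}) ×ˢ ({t} : Set T) := by
          ext ⟨x, s⟩
          constructor
          · rintro ⟨z, hz, hzx⟩
            exact hzx ▸ ⟨z.2.trans (congrArg g hz), hz⟩
          · rintro ⟨hx, hs⟩
            exact ⟨⟨(x, s), (show _ = _ from hx).trans (congrArg g (show s = t from hs).symm)⟩, hs, rfl⟩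
        refine (this ▸ ?_ : IsPreconnected (Subtype.val '' C))
        refine IsPreconnected.prod ?_ isPreconnected_singleton
        obtain ⟨x, hx⟩ := ConnectedComponents.surjective_coe (g t)
        rw [← hx, connectedComponents_preimage_singleton]
        exact isPreconnected_connectedComponent
      exact hC.subset_connectedComponent (show y'.1.2 = t from rfl) (show y.1.2 = t from h)
    · obtain ⟨x, hx⟩ := ConnectedComponents.surjective_coe (g t)
      exact ⟨ConnectedComponents.mk ⟨(x, t), hx⟩, rfl⟩
  exact ⟨Continuous.homeoOfEquivCompactToT2 (f := Equiv.ofBijective φ hbij) hφ, hmk⟩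

end Groth.Agent.ProEtW.Pullback
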