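import Groth.Agent.ProEtW.LocFrac
import Groth.Agent.ProEtW.Spectral
import Groth.Prelude.Def_ProEtW
import Mathlib.RingTheory.Flat.FaithfullyFlat.Algebra

/-!
The w-localization of a ring, and its variants indexed by a profinite space over the constructible
topology of `Spec A`.
-/

universe u

namespace Groth.Agent.ProEtW.WLocalization

open Set Topology TopologicalSpace
open Groth.Agent.ProEtW

/-- A continuous surjection onto a totally disconnected space with preconnected fibres identifies the
target with the space of connected components. -/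
theorem exists_pi0_homeomorph {Y T : Type u} [TopologicalSpace Y] [CompactSpace Y]
    [TopologicalSpace T] [T2Space T] [TotallyDisconnectedSpace T] {f : Y → T} (hf : Continuous f)
    (hs : Function.Surjective f) (hfib : ∀ t, IsPreconnected (f ⁻¹' {t})) :
    ∃ e : _root_.ConnectedComponents Y ≃ₜ T, ∀ y, e (ConnectedComponents.mk y) = f y := by
  have hbij : Function.Bijective hf.connectedComponentsLift := by
    refine ⟨?_, fun t => ?_⟩
    · intro c d
      obtain ⟨x, rfl⟩ := ConnectedComponents.surjective_coe c
      obtain ⟨y, rfl⟩ := ConnectedComponents.surjective_coe d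
      rw [hf.connectedComponentsLift_apply_coe, hf.connectedComponentsLift_apply_coe]
      intro h
      exact ConnectedComponents.coe_eq_coe'.2 ((hfib (f y)).subset_connectedComponent rfl h)
    · obtain ⟨y, rfl⟩ := hs t
      exact ⟨ConnectedComponents.mk y, hf.connectedComponentsLift_apply_coe y⟩
  exact ⟨(hf.connectedComponentsLift_continuous).homeoOfEquivCompactToT2
    (f := Equiv.ofBijective _ hbij), fun y => hf.connectedComponentsLift_apply_coe y⟩

variable {A : Type u} [CommRing A]

/-- The prime underlying a point of the constructible topology. -/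
def under (z : WithConstructibleTopology (PrimeSpectrum A)) : PrimeSpectrum A :=
  WithTopology.ofTopology z

theorem isClopen_preimage_under {U : Set (PrimeSpectrum A)} (hU : IsOpen U) (hUc : IsCompact U) :
    IsClopen (under ⁻¹' U) := by
  refine ⟨?_, ?_⟩
  · rw [← isOpen_compl_iff, WithConstructibleTopology.isOpen_iff]
    exact IsCompact.isOpen_constructibleTopology_of_isClosed (s := Uᶜ) (by rwa [compl_compl])
      hU.isClosed_compl
  · rw [WithConstructibleTopology.isOpen_iff]
    exact hUc.isOpen_constructibleTopology_of_isOpen hU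

theorem isClopen_basicOpen (a : A) :
    IsClopen {z : WithConstructibleTopology (PrimeSpectrum A) | a ∉ (under z).asIdeal} :=
  isClopen_preimage_under (PrimeSpectrum.basicOpen a).isOpen (PrimeSpectrum.isCompact_basicOpen a)

instance : TotallySeparatedSpace (WithConstructibleTopology (PrimeSpectrum A)) := by
  rw [totallySeparatedSpace_iff_exists_isClopen]
  intro x y hne
  have : (under x).asIdeal ≠ (under y).asIdeal := fun h =>
    hne (WithTopology.ofTopology_injective (constructibleTopology (PrimeSpectrum A)) (PrimeSpectrum.ext h))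
  obtain ⟨a, ha⟩ : ∃ a, ¬ (a ∈ (under x).asIdeal ↔ a ∈ (under y).asIdeal) := by
    by_contra h
    push Not at h
    exact this (Ideal.ext h)
  by_cases hx : a ∈ (under x).asIdeal
  · exact ⟨_, (isClopen_basicOpen a).compl, not_not.2 hx,
      not_not.2 (show a ∉ (under y).asIdeal from fun hy => ha (iff_of_true hx hy))⟩
  · exact ⟨_, isClopen_basicOpen a, hx, not_not.2 ((not_iff.1 ha).1 hx)⟩

instance : T2Space (WithConstructibleTopology (PrimeSpectrum A)) := by
  refine ⟨fun x y hne => ?_⟩
  obtain ⟨U, hU, hx, hy⟩ := exists_isClopen_of_totally_separated hne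
  exact ⟨U, Uᶜ, hU.2, hU.compl.2, hx, hy, disjoint_compl_right⟩

/-- Continuity into the constructible topology is tested on compact opens. -/
theorem continuous_of_isClopen {X : Type*} [TopologicalSpace X]
    {f : X → WithConstructibleTopology (PrimeSpectrum A)}
    (h : ∀ U : Set (PrimeSpectrum A), IsOpen U → IsCompact U → IsClopen ((under ∘ f) ⁻¹' U)) :
    Continuous f := by
  have h1 : Continuous[_, constructibleTopology (PrimeSpectrum A)] (under ∘ f) := by
    refine continuous_generateFrom_iff.2 ?_
    rintro s (⟨hs, hsc⟩ | ⟨hs, hsc⟩)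
    · exact (h s hs hsc).2
    · rw [← compl_compl s, preimage_compl]
      exact (h sᶜ hs.isOpen_compl hsc).compl.2
  exact @Continuous.comp _ _ _ _ (constructibleTopology (PrimeSpectrum A)) _ _ _
    (WithTopology.continuous_toTopology _) h1

variable {T : Type u} [TopologicalSpace T] (h : T → WithConstructibleTopology (PrimeSpectrum A))

/-- The submonoid attached to a point. -/
def sub (t : T) : Submonoid A := (under (h t)).asIdeal.primeCompl

variable {h} (hh : Continuous h)

include hh in
theorem isOpen_sub (s : A) : IsOpen {t | s ∈ sub h t} := (isClopen_basicOpen s).2.preimage hh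

variable [CompactSpace T] [T2Space T] [TotallyDisconnectedSpace T]

local notation "Aw" => LocFrac.Ring (sub h)
local notation "π" => LocFrac.toProd (S := sub h)

include hh in
theorem range_eq : range π = {q | q.1 ≤ under (h q.2)} := by
  rw [LocFrac.range_toProd (isOpen_sub hh)]
  ext q
  exact ⟨fun H x hx => by_contra fun hn => H x hn hx, fun H s hs hsx => hs (H hsx)⟩

include hh in
theorem le (Q : PrimeSpectrum Aw) : (π Q).1 ≤ under (h (π Q).2) := by
  have := (range_eq hh).le (mem_range_self Q)
  exact this

include hh in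
theorem specializes_iff (Q Q' : PrimeSpectrum Aw) :
    Q ⤳ Q' ↔ (π Q).1 ≤ (π Q').1 ∧ (π Q).2 = (π Q').2 := by
  rw [← (LocFrac.toProd_isEmbedding (isOpen_sub hh)).isInducing.specializes_iff, specializes_prod,
    ← PrimeSpectrum.le_iff_specializes, specializes_iff_eq]

include hh in
theorem exists_closedPt (t : T) : ∃ Q : PrimeSpectrum Aw, π Q = (under (h t), t) :=
  (range_eq hh).ge (le_refl (under (h t)))

include hh in
theorem isClosed_singleton_iff (Q : PrimeSpectrum Aw) :
    IsClosed ({Q} : Set (PrimeSpectrum Aw)) ↔ (π Q).1 = under (h (π Q).2) := by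
  constructor
  · intro hQ
    obtain ⟨Q', hQ'⟩ := exists_closedPt hh (π Q).2
    have hs : Q ⤳ Q' := (specializes_iff hh Q Q').2 (by rw [hQ']; exact ⟨le hh Q, rfl⟩)
    have : Q' = Q := hs.mem_closed hQ rfl
    rw [this] at hQ'
    exact congr_arg Prod.fst hQ'
  · intro hQ
    refine isClosed_iff_nhds.2 fun Q' hn => ?_
    have hs : Q ⤳ Q' := specializes_iff_mem_closure.2 (mem_closure_iff_nhds.2 hn)
    obtain ⟨h1, h2⟩ := (specializes_iff hh Q Q').1 hs
    refine ((LocFrac.toProd_isEmbedding (isOpen_sub hh)).injective (Prod.ext ?_ h2)).symm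
    exact le_antisymm h1 ((le hh Q').trans (hQ.trans (congrArg (fun t => under (h t)) h2)).ge)

include hh in
theorem isClosed_closedPoints :
    IsClosed (ProEtW.closedPoints (PrimeSpectrum Aw)) := by
  rw [← isOpen_compl_iff]
  have : (ProEtW.closedPoints (PrimeSpectrum Aw))ᶜ = π ⁻¹' (⋃ a : A,
      (PrimeSpectrum.basicOpen a : Set (PrimeSpectrum A)) ×ˢ {t | a ∈ sub h t}ᶜ) := by
    ext Q
    simp only [ProEtW.closedPoints, mem_compl_iff, mem_ofPred_eq, isClosed_singleton_iff hh,
      mem_preimage, mem_iUnion, mem_prod]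
    constructor
    · intro hne
      obtain ⟨a, ha, ha'⟩ := SetLike.exists_of_lt
        (lt_of_le_of_ne (α := Ideal A) (le hh Q) fun e => hne (PrimeSpectrum.ext e))
      exact ⟨a, ha', not_not.2 ha⟩
    · rintro ⟨a, ha, ha'⟩ he
      exact ha' fun hn => ha (he.ge hn)
  rw [this]
  exact ((isOpen_iUnion fun a => (PrimeSpectrum.basicOpen a).isOpen.prod
    (((isClopen_basicOpen a).preimage hh).compl.2))).preimage
    (LocFrac.toProd_isEmbedding (isOpen_sub hh)).continuous

include hh in
theorem isWLocal : ProEtW.IsWLocal (PrimeSpectrum Aw) := by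
  refine ⟨inferInstance, isClosed_closedPoints hh, fun Q => ?_⟩
  obtain ⟨Q', hQ'⟩ := exists_closedPt hh (π Q).2
  refine ⟨Q', ⟨(isClosed_singleton_iff hh Q').2 (by rw [hQ']),
    (specializes_iff hh Q Q').2 (by rw [hQ']; exact ⟨le hh Q, rfl⟩)⟩, fun Q'' ⟨hc, hs⟩ => ?_⟩
  have h2 := ((specializes_iff hh Q Q'').1 hs).2
  refine (LocFrac.toProd_isEmbedding (isOpen_sub hh)).injective ?_
  rw [hQ']
  exact Prod.ext (((isClosed_singleton_iff hh Q'').1 hc).trans
    (congrArg (fun t => under (h t)) h2.symm)) h2.symm

include hh in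
theorem bijOn_pt : BijOn (LocFrac.pt (S := sub h)) (ProEtW.closedPoints (PrimeSpectrum Aw)) univ := by
  refine ⟨fun _ _ => trivial, fun Q hQ Q' hQ' he => ?_, fun t _ => ?_⟩
  · exact (LocFrac.toProd_isEmbedding (isOpen_sub hh)).injective (Prod.ext
      (((isClosed_singleton_iff hh Q).1 hQ).trans (((congrArg (fun t => under (h t)) he :)).trans
        ((isClosed_singleton_iff hh Q').1 hQ').symm)) he)
  · obtain ⟨Q, hQ⟩ := exists_closedPt hh t
    exact ⟨Q, (isClosed_singleton_iff hh Q).2 (by rw [hQ]), congr_arg Prod.snd hQ⟩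

include hh in
theorem exists_pi0 : ∃ e : _root_.ConnectedComponents (PrimeSpectrum Aw) ≃ₜ T,
    ∀ Q, e (ConnectedComponents.mk Q) = LocFrac.pt Q := by
  refine exists_pi0_homeomorph LocFrac.continuous_pt
    (fun t => let ⟨Q, hQ⟩ := exists_closedPt hh t; ⟨Q, congr_arg Prod.snd hQ⟩) fun t => ?_
  obtain ⟨Q₀, hQ₀⟩ := exists_closedPt hh t
  refine isPreconnected_of_forall Q₀ fun Q hQ => ⟨closure {Q}, fun Q' hQ' => ?_, ?_, subset_closure rfl,
    isPreconnected_singleton.closure⟩
  · exact (((specializes_iff hh Q Q').1 (specializes_iff_mem_closure.2 hQ')).2.symm.trans hQ :)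
  · refine specializes_iff_mem_closure.1 ((specializes_iff hh Q Q₀).2 ?_)
    have hQt : LocFrac.pt Q = t := hQ
    rw [hQ₀]
    exact ⟨(congrArg (fun t => under (h t)) hQt).le.trans' (le hh Q), hQt⟩

include hh in
theorem isIndZariski : EtPBC.IsIndZariski A Aw := LocFrac.isIndZariski (isOpen_sub hh)

include hh in
theorem faithfullyFlat (hs : Function.Surjective h) : Module.FaithfullyFlat A Aw := by
  have := LocFrac.flat (S := sub h) (isOpen_sub hh)
  refine Module.FaithfullyFlat.of_comap_surjective fun p => ?_
  obtain ⟨t, ht⟩ := hs (WithTopology.toTopology _ p)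
  obtain ⟨Q, hQ⟩ := exists_closedPt hh t
  refine ⟨Q, (congr_arg Prod.fst hQ).trans ?_⟩
  show under (h t) = p
  rw [ht]
  rfl

end Groth.Agent.ProEtW.WLocalization
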