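import Groth.Agent.ProEtW.WLocalization
import Mathlib.Topology.Spectral.Hom
import Mathlib.RingTheory.Spectrum.Maximal.Localization

/-!
Universal property of the w-localization.
-/

universe u

namespace Groth.Agent.ProEtW.WUniversal

open Set Topology TopologicalSpace
open Groth.Agent.ProEtW

theorem isSpectralMap_comap {R S : Type u} [CommRing R] [CommRing S] (f : R →+* S) :
    IsSpectralMap (PrimeSpectrum.comap f) := by
  refine { toContinuous := PrimeSpectrum.continuous_comap f, isCompact_preimage_of_isOpen := ?_ }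
  intro U hU hUc
  obtain ⟨F, hF⟩ := hUc.elim_finite_subcover
    (fun r : {r : R // (PrimeSpectrum.basicOpen r : Set (PrimeSpectrum R)) ⊆ U} =>
      (PrimeSpectrum.basicOpen r.1 : Set (PrimeSpectrum R)))
    (fun r => (PrimeSpectrum.basicOpen r.1).isOpen) (fun x hx => by
      obtain ⟨_, ⟨r, rfl⟩, hxr, hrU⟩ :=
        PrimeSpectrum.isTopologicalBasis_basic_opens.exists_subset_of_mem_open hx hU
      exact mem_iUnion.2 ⟨⟨r, hrU⟩, hxr⟩)
  have : U = ⋃ r ∈ F, (PrimeSpectrum.basicOpen r.1 : Set (PrimeSpectrum R)) :=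
    hF.antisymm (iUnion₂_subset fun r _ => r.2)
  rw [this, preimage_iUnion₂]
  exact F.isCompact_biUnion fun r _ => PrimeSpectrum.isCompact_basicOpen (f r.1)

theorem map_idempotent_eq {B L : Type*} [CommRing B] [CommRing L] (f : B →+* L) {ε : B}
    (hε : IsIdempotentElem ε) (hu : IsUnit (f ε)) : f ε = 1 :=
  (IsIdempotentElem.iff_eq_one_of_isUnit hu).1 (hε.map f)

variable {A : Type u} [CommRing A] {B : Type u} [CommRing B] [Algebra A B]

local notation "idZ" => (id : WithConstructibleTopology (PrimeSpectrum A) → _)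
local notation "Z" => WithConstructibleTopology (PrimeSpectrum A)
local notation "Aw" => LocFrac.Ring (WLocalization.sub idZ)

/-- The point of the constructible topology under a maximal ideal of `B`. -/
def kappa (A : Type u) [CommRing A] {B : Type u} [CommRing B] [Algebra A B]
    (m : MaximalSpectrum B) : WithConstructibleTopology (PrimeSpectrum A) :=
  WithTopology.toTopology _ (PrimeSpectrum.comap (algebraMap A B) ⟨m.asIdeal, m.isMaximal.isPrime⟩)

theorem mem_sub_kappa {s : A} {m : MaximalSpectrum B} :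
    s ∈ WLocalization.sub idZ (kappa A m) ↔ algebraMap A B s ∉ m.asIdeal := Iff.rfl

theorem isUnit_algebraMap {m : MaximalSpectrum B} (s : WLocalization.sub idZ (kappa A m)) :
    IsUnit (algebraMap A (Localization.AtPrime m.asIdeal) s) := by
  rw [IsScalarTower.algebraMap_apply A B]
  exact (IsLocalization.AtPrime.isUnit_to_map_iff _ m.asIdeal _).2 (mem_sub_kappa.1 s.2)

/-- The map of local rings. -/
noncomputable def loc (m : MaximalSpectrum B) :
    Localization (WLocalization.sub idZ (kappa A m)) →ₐ[A] Localization.AtPrime m.asIdeal :=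
  { IsLocalization.lift (M := WLocalization.sub idZ (kappa A m))
      (S := Localization (WLocalization.sub idZ (kappa A m))) isUnit_algebraMap with
    commutes' := fun a => IsLocalization.lift_eq _ a }

/-- The comparison map to the product of the local rings at maximal ideals. -/
noncomputable def G : Aw →ₐ[A] MaximalSpectrum.PiLocalization B :=
  AlgHom.pi fun m : MaximalSpectrum B => (loc m).comp (LocFrac.ev _ (kappa A m))

theorem G_zero {m : MaximalSpectrum B} {φ : Aw}
    (h : LocFrac.ev _ (kappa A m) φ = 0) : G (B := B) φ m = 0 := by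
  show loc m (LocFrac.ev _ (kappa A m) φ) = 0
  rw [h, map_zero]

theorem G_frac {m : MaximalSpectrum B} {φ : Aw} {a s : A}
    (h : LocFrac.ev _ (kappa A m) φ * algebraMap A _ s = algebraMap A _ a) :
    G (B := B) φ m * algebraMap A (Localization.AtPrime m.asIdeal) s =
      algebraMap A (Localization.AtPrime m.asIdeal) a := by
  show loc m (LocFrac.ev _ (kappa A m) φ) * _ = _
  rw [← (loc m).commutes s, ← map_mul, h, (loc m).commutes]

variable (hB : ProEtW.IsWLocal (PrimeSpectrum B))

include hB in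
theorem exists_idempotent {n : ℕ} (idx : Z → Fin n) (hidx : IsLocallyConstant idx) (i : Fin n) :
    ∃ ε : B, IsIdempotentElem ε ∧ ∀ m : MaximalSpectrum B, ε ∉ m.asIdeal ↔ idx (kappa A m) = i := by
  obtain ⟨-, h0, huniq⟩ := hB
  let C0 : Set (PrimeSpectrum B) := {x | IsClosed ({x} : Set (PrimeSpectrum B))}
  have hC0 : IsClosed C0 := h0
  have : SpectralSpace C0 := Spectral.spectralSpace_subtype hC0
  have : T1Space C0 := ⟨fun x => by
    have : ({x} : Set C0) = Subtype.val ⁻¹' {x.1} := by ext; simp [Subtype.ext_iff]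
    rw [this]
    exact x.2.preimage continuous_subtype_val⟩
  have : T2Space C0 := Spectral.t2Space_of_t1Space
  let j : C0 → Z := fun x => WithTopology.toTopology _ (PrimeSpectrum.comap (algebraMap A B) x.1)
  have hj : Continuous j := by
    refine WLocalization.continuous_of_isClopen fun U hU hUc => ?_
    have hc : IsCompact ((Subtype.val : C0 → PrimeSpectrum B) ⁻¹'
        (PrimeSpectrum.comap (algebraMap A B) ⁻¹' U)) :=
      hC0.isClosedEmbedding_subtypeVal.isCompact_preimage
        (hUc.preimage_of_isOpen (isSpectralMap_comap _) hU)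
    exact ⟨hc.isClosed, (hU.preimage (PrimeSpectrum.continuous_comap _)).preimage continuous_subtype_val⟩
  have hcl : IsClopen ((idx ∘ j) ⁻¹' {i}) := (hidx.isClopen_fiber i).preimage hj
  let C : Set (PrimeSpectrum B) := Subtype.val '' ((idx ∘ j) ⁻¹' {i})
  let D : Set (PrimeSpectrum B) := Subtype.val '' ((idx ∘ j) ⁻¹' {i})ᶜ
  obtain ⟨W, hW, hCW, hDW⟩ := Spectral.exists_isClopen_inter_closedPoints h0 huniq (C := C) (D := D)
    (hC0.isClosedEmbedding_subtypeVal.isClosedMap _ hcl.1)
    (hC0.isClosedEmbedding_subtypeVal.isClosedMap _ hcl.compl.1)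
    (by rw [← image_union, union_compl_self, image_univ, Subtype.range_coe])
    (disjoint_image_of_injective Subtype.val_injective disjoint_compl_right)
  obtain ⟨ε, hε, rfl⟩ := PrimeSpectrum.isClopen_iff.1 hW
  refine ⟨ε, hε, fun m => ?_⟩
  let x : C0 := ⟨⟨m.asIdeal, m.isMaximal.isPrime⟩,
    (PrimeSpectrum.isClosed_singleton_iff_isMaximal _).2 m.isMaximal⟩
  refine ⟨fun h => by_contra fun hne => Set.disjoint_left.1 hDW ⟨x, hne, rfl⟩ h,
    fun h => hCW ⟨x, h, rfl⟩⟩

include hB in
theorem exists_preimage (φ : Aw) : ∃ b : B, ∀ m : MaximalSpectrum B,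
    algebraMap B (Localization.AtPrime m.asIdeal) b = G (B := B) φ m := by
  choose W a s hW htW hd using φ.2
  obtain ⟨n, p, idx, hidx, hmem⟩ := LocFrac.exists_partition W hW htW
  choose ε hε hεm using exists_idempotent hB idx hidx
  have hu : ∀ i, ∃ u : B, u * algebraMap A B (s (p i)) * ε i = ε i := by
    intro i
    have htop : Ideal.span {algebraMap A B (s (p i)), 1 - ε i} = ⊤ := by
      by_contra hne
      obtain ⟨m, hm, hle⟩ := Ideal.exists_le_maximal _ hne
      rw [Ideal.span_le, insert_subset_iff, singleton_subset_iff] at hle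
      have hnε : ε i ∉ m := fun h => hm.ne_top ((Ideal.eq_top_iff_one m).2 (by
        simpa using add_mem hle.2 h))
      have hi := (hεm i ⟨m, hm⟩).1 hnε
      exact (mem_sub_kappa (m := ⟨m, hm⟩)).1 (hd _ _ (hi ▸ hmem (kappa A ⟨m, hm⟩))).1 hle.1
    obtain ⟨u, v, huv⟩ := Ideal.mem_span_pair.1 (htop.symm ▸ Submodule.mem_top : (1 : B) ∈ _)
    refine ⟨u, ?_⟩
    have h1 : (1 - ε i) * ε i = 0 := by rw [sub_mul, one_mul, hε i, sub_self]
    linear_combination (ε i) * huv - v * h1
  choose u hu using hu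
  refine ⟨∑ i, algebraMap A B (a (p i)) * u i * ε i, fun m => ?_⟩
  let f := algebraMap B (Localization.AtPrime m.asIdeal)
  let i₀ := idx (kappa A m)
  have hone : f (ε i₀) = 1 := map_idempotent_eq f (hε i₀)
    ((IsLocalization.AtPrime.isUnit_to_map_iff _ m.asIdeal _).2 ((hεm i₀ m).2 rfl))
  have hzero : ∀ i ≠ i₀, f (ε i) = 0 := by
    intro i hi
    have h1 : 1 - ε i ∉ m.asIdeal := by
      intro h
      exact m.isMaximal.ne_top ((Ideal.eq_top_iff_one _).2 (by
        simpa using add_mem h (not_not.1 fun hn => hi ((hεm i m).1 hn).symm)))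
    have h2 := map_idempotent_eq f (hε i).one_sub
      ((IsLocalization.AtPrime.isUnit_to_map_iff _ m.asIdeal _).2 h1)
    rw [map_sub, map_one] at h2
    simpa using h2
  obtain ⟨hs, heq⟩ := hd (p i₀) (kappa A m) (hmem _)
  have hsu : IsUnit (algebraMap A (Localization.AtPrime m.asIdeal) (s (p i₀))) := by
    rw [IsScalarTower.algebraMap_apply A B]
    exact (IsLocalization.AtPrime.isUnit_to_map_iff _ m.asIdeal _).2 (mem_sub_kappa.1 hs)
  refine hsu.mul_left_inj.1 (Eq.trans ?_ (G_frac (φ := φ) heq).symm)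
  show f _ * _ = _
  rw [map_sum, Finset.sum_eq_single i₀ (fun i _ hi => by rw [map_mul, hzero i hi, mul_zero])
    (fun h => absurd (Finset.mem_univ _) h),
    IsScalarTower.algebraMap_apply A B (Localization.AtPrime m.asIdeal) (s (p i₀)),
    IsScalarTower.algebraMap_apply A B (Localization.AtPrime m.asIdeal) (a (p i₀))]
  show f _ * f _ = f _
  rw [map_mul, map_mul, hone, mul_one, mul_assoc, ← map_mul]
  have := congrArg f (hu i₀)
  rw [map_mul, hone, mul_one] at this
  rw [this, mul_one]

/-- The comparison map from `B`. -/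
noncomputable def F : B →ₐ[A] MaximalSpectrum.PiLocalization B :=
  AlgHom.pi fun m => IsScalarTower.toAlgHom A B (Localization.AtPrime m.asIdeal)

theorem F_injective : Function.Injective (F (A := A) (B := B)) :=
  MaximalSpectrum.toPiLocalization_injective B

theorem pt_kappa (ψ : Aw →ₐ[A] B) (m : MaximalSpectrum B)
    (hc : IsClosed ({PrimeSpectrum.comap ψ.toRingHom ⟨m.asIdeal, m.isMaximal.isPrime⟩} :
      Set (PrimeSpectrum Aw))) :
    LocFrac.pt (PrimeSpectrum.comap ψ.toRingHom ⟨m.asIdeal, m.isMaximal.isPrime⟩) = kappa A m := by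
  refine WithTopology.ofTopology_injective (constructibleTopology (PrimeSpectrum A)) ?_
  refine ((WLocalization.isClosed_singleton_iff (h := idZ) continuous_id _).1 hc).symm.trans ?_
  show PrimeSpectrum.comap _ (PrimeSpectrum.comap _ _) = PrimeSpectrum.comap (algebraMap A B) _
  rw [← PrimeSpectrum.comap_comp_apply]
  congr 1
  exact ψ.comp_algebraMap

theorem eq_G (ψ : Aw →ₐ[A] B) (hψ : ProEtW.IsWLocalMap (PrimeSpectrum.comap ψ.toRingHom))
    (φ : Aw) (m : MaximalSpectrum B) :
    algebraMap B (Localization.AtPrime m.asIdeal) (ψ φ) = G (B := B) φ m := by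
  let Q := PrimeSpectrum.comap ψ.toRingHom ⟨m.asIdeal, m.isMaximal.isPrime⟩
  have hQ : LocFrac.pt Q = kappa A m := pt_kappa ψ m
    (hψ.2 _ ((PrimeSpectrum.isClosed_singleton_iff_isMaximal _).2 m.isMaximal))
  obtain ⟨W, a, s, hW, htW, hd⟩ := φ.2 (kappa A m)
  let f := algebraMap B (Localization.AtPrime m.asIdeal)
  have he : IsIdempotentElem (LocFrac.idem (S := WLocalization.sub idZ) W hW) := by
    refine LocFrac.ext _ fun x => ?_
    rw [map_mul]
    by_cases hx : x ∈ W
    · rw [LocFrac.ev_idem_of_mem hW hx, one_mul]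
    · rw [LocFrac.ev_idem_of_notMem hW hx, zero_mul]
  have hnm : ψ (LocFrac.idem W hW) ∉ m.asIdeal :=
    (LocFrac.pt_spec Q hW).2 (hQ ▸ htW)
  have h1 : f (ψ (LocFrac.idem W hW)) = 1 := map_idempotent_eq f (he.map ψ.toRingHom)
    ((IsLocalization.AtPrime.isUnit_to_map_iff _ m.asIdeal _).2 hnm)
  have h2 : (φ * algebraMap A Aw s - algebraMap A Aw a) * LocFrac.idem W hW = 0 := by
    refine LocFrac.ext _ fun x => ?_
    rw [map_mul, map_sub, map_mul, AlgHom.commutes, AlgHom.commutes, map_zero]
    by_cases hx : x ∈ W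
    · show (φ.1 x * _ - _) * _ = _
      rw [(hd x hx).2, sub_self, zero_mul]
    · rw [LocFrac.ev_idem_of_notMem hW hx, mul_zero]
  have h3 := congrArg (fun y => f (ψ y)) h2
  simp only [map_mul, map_sub, AlgHom.commutes, map_zero, h1, mul_one] at h3
  have hsu : IsUnit (algebraMap A (Localization.AtPrime m.asIdeal) s) := by
    rw [IsScalarTower.algebraMap_apply A B]
    exact (IsLocalization.AtPrime.isUnit_to_map_iff _ m.asIdeal _).2 (mem_sub_kappa.1 (hd _ htW).1)
  refine hsu.mul_left_inj.1 (Eq.trans ?_ (G_frac (φ := φ) (hd _ htW).2).symm)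
  rw [IsScalarTower.algebraMap_apply A B (Localization.AtPrime m.asIdeal),
    IsScalarTower.algebraMap_apply A B (Localization.AtPrime m.asIdeal)]
  exact sub_eq_zero.1 h3

include hB in
theorem existsUnique :
    ∃! ψ : Aw →ₐ[A] B, ProEtW.IsWLocalMap (PrimeSpectrum.comap ψ.toRingHom) := by
  have hr : ∀ φ : Aw, G (B := B) φ ∈ (F (A := A) (B := B)).range := fun (φ : Aw) => by
    obtain ⟨b, hb⟩ := exists_preimage hB φ
    exact ⟨b, funext hb⟩
  let e := AlgEquiv.ofInjective (F (A := A) (B := B)) F_injective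
  let ψ : Aw →ₐ[A] B := e.symm.toAlgHom.comp ((G (B := B)).codRestrict _ hr)
  have hψ : ∀ φ m, algebraMap B (Localization.AtPrime m.asIdeal) (ψ φ) = G (B := B) φ m := by
    intro φ m
    have := congrArg Subtype.val (e.apply_symm_apply ((G (B := B)).codRestrict _ hr φ))
    exact congrFun this m
  refine ⟨ψ, ⟨isSpectralMap_comap _, fun x hx => ?_⟩, fun ψ' h' => ?_⟩
  · have hx' := (PrimeSpectrum.isClosed_singleton_iff_isMaximal x).1 hx
    let m : MaximalSpectrum B := ⟨x.asIdeal, hx'⟩
    let Q := PrimeSpectrum.comap ψ.toRingHom x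
    refine (WLocalization.isClosed_singleton_iff (h := idZ) continuous_id Q).2 ?_
    have hQ : LocFrac.pt Q = kappa A m := by
      by_contra hne
      obtain ⟨W, hW, h1, h2⟩ := exists_isClopen_of_totally_separated hne
      have hn : ψ (LocFrac.idem W hW) ∉ m.asIdeal := (LocFrac.pt_spec Q hW).2 h1
      have h3 := hψ (LocFrac.idem W hW) m
      rw [G_zero (LocFrac.ev_idem_of_notMem hW h2)] at h3
      exact ((IsLocalization.AtPrime.isUnit_to_map_iff (Localization.AtPrime m.asIdeal) m.asIdeal _).2
        hn).ne_zero h3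
    show PrimeSpectrum.comap _ (PrimeSpectrum.comap _ x) = WLocalization.under (LocFrac.pt Q)
    rw [hQ, ← PrimeSpectrum.comap_comp_apply]
    show _ = PrimeSpectrum.comap (algebraMap A B) x
    congr 1
    exact ψ.comp_algebraMap
  · refine AlgHom.ext fun φ => F_injective (A := A) (funext fun m => ?_)
    exact (eq_G ψ' h' φ m).trans (hψ φ m).symm

end Groth.Agent.ProEtW.WUniversal
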